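import Cfsg.Agent.Lib.PrimeBlock.Brauer.Main
import Cfsg.Agent.Lib.Coprime.FixedPointFree

/-!
# Perfect groups with a self-centralizing element of prime order and few Sylow subgroups
-/

set_option linter.style.haveILetI false
set_option linter.unusedSectionVars false

namespace Cfsg.Agent.PrimeBlock.Brauer

open Subgroup
open Cfsg.Agent.SmallSimple

universe u

variable {G : Type u} [Group G] [Finite G] {p : ℕ} [Fact p.Prime]

/-- A normal subgroup `K` with `G = K H` and `[H, H] ≤ K` contains the derived subgroup. -/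
theorem commutator_le_of_sup (K H : Subgroup G) [K.Normal] (hKH : K ⊔ H = ⊤)
    (hHH : ∀ a ∈ H, ∀ b ∈ H, a * b * a⁻¹ * b⁻¹ ∈ K) : commutator G ≤ K := by
  have hq : ∀ g : G, ∃ h ∈ H, (g : G ⧸ K) = (h : G ⧸ K) := by
    intro g
    obtain ⟨k, hk, h, hh, rfl⟩ := mem_sup_of_normal_left.1 (hKH.symm ▸ mem_top g : g ∈ K ⊔ H)
    refine ⟨h, hh, ?_⟩
    rw [QuotientGroup.mk_mul, (QuotientGroup.eq_one_iff k).2 hk, one_mul]
  rw [commutator_def, commutator_le]
  intro a _ b _
  obtain ⟨x, hx, hax⟩ := hq a
  obtain ⟨y, hy, hby⟩ := hq b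
  rw [← QuotientGroup.eq_one_iff, commutatorElement_def, QuotientGroup.mk_mul, QuotientGroup.mk_mul,
    QuotientGroup.mk_mul, QuotientGroup.mk_inv, QuotientGroup.mk_inv, hax, hby,
    ← QuotientGroup.mk_inv, ← QuotientGroup.mk_inv, ← QuotientGroup.mk_mul, ← QuotientGroup.mk_mul,
    ← QuotientGroup.mk_mul, QuotientGroup.eq_one_iff]
  exact hHH x hx y hy

/-- Commutators in the normalizer of a cyclic subgroup centralize it. -/
theorem commutator_mem_centralizer (P : Sylow p G) (hP : Nat.card (P : Subgroup G) = p) {a b : G}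
    (ha : a ∈ normalizer ((P : Subgroup G) : Set G)) (hb : b ∈ normalizer ((P : Subgroup G) : Set G)) :
    a * b * a⁻¹ * b⁻¹ ∈ centralizer ((P : Subgroup G) : Set G) := by
  haveI : IsCyclic (P : Subgroup G) := isCyclic_of_prime_card hP
  let f := (P : Subgroup G).normalizerMonoidHom
  letI : CommGroup (MulAut (P : Subgroup G)) :=
    { (inferInstance : Group (MulAut (P : Subgroup G))) with
      mul_comm := fun x y => (IsCyclic.mulAutMulEquiv (P : Subgroup G)).injective (by
        rw [map_mul, map_mul, mul_comm]) }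
  have h1 : ((⟨a, ha⟩ : normalizer ((P : Subgroup G) : Set G)) * ⟨b, hb⟩ * ⟨a, ha⟩⁻¹ * ⟨b, hb⟩⁻¹) ∈ f.ker := by
    rw [MonoidHom.mem_ker, map_mul, map_mul, map_mul, map_inv, map_inv, mul_inv_eq_one,
      mul_inv_eq_iff_eq_mul, mul_comm]
  rw [Subgroup.normalizerMonoidHom_ker, Subgroup.mem_subgroupOf] at h1
  exact h1

theorem isSimpleGroup_of_perfect (hperf : commutator G = ⊤) (P : Sylow p G)
    (hP : Nat.card (P : Subgroup G) = p)
    (hC : Nat.card (centralizer ((P : Subgroup G) : Set G)) = p)
    (hn : Nat.card (Sylow p G) < (p + 1) * (p + 1)) : IsSimpleGroup G := by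
  classical
  have hp : p.Prime := Fact.out
  haveI : IsCyclic (P : Subgroup G) := isCyclic_of_prime_card hP
  have hCP : centralizer ((P : Subgroup G) : Set G) = (P : Subgroup G) :=
    (eq_of_le_of_card_ge (le_centralizer _) (by rw [hC, hP])).symm
  haveI : Nontrivial G := by
    refine Finite.one_lt_card_iff_nontrivial.1 (lt_of_lt_of_le (b := Nat.card (P : Subgroup G)) ?_
      (Nat.le_of_dvd Nat.card_pos (card_subgroup_dvd_card (P : Subgroup G))))
    rw [hP]; exact hp.one_lt
  refine ⟨fun K hK => ?_⟩
  by_contra hcon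
  push Not at hcon
  obtain ⟨hKb, hKt⟩ := hcon
  haveI := hK
  set N := normalizer ((P : Subgroup G) : Set G) with hN
  by_cases hpK : p ∣ Nat.card K
  · haveI : Fact p.Prime := inferInstance
    obtain ⟨⟨k, hk⟩, hko⟩ := exists_prime_orderOf_dvd_card' (G := K) p hpK
    rw [Subgroup.orderOf_mk] at hko
    obtain ⟨Q, hQ⟩ := (IsPGroup.of_card (n := 1) (by rw [Nat.card_zpowers, hko, pow_one]) :
      IsPGroup p (zpowers k)).exists_le_sylow
    have hQc : Nat.card (Q : Subgroup G) = p := by rw [Q.card_eq_multiplicity, ← P.card_eq_multiplicity, hP]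
    have hQK : (Q : Subgroup G) ≤ K := by
      rw [← eq_of_le_of_card_ge hQ (by rw [hQc, Nat.card_zpowers, hko])]
      exact zpowers_le.2 hk
    obtain ⟨a, ha⟩ := MulAction.exists_smul_eq G Q P
    have hPK : (P : Subgroup G) ≤ K := by
      rw [← ha, Sylow.coe_subgroup_smul]
      rintro - ⟨q, hq, rfl⟩
      exact hK.conj_mem q (hQK hq) a
    have hsup : K ⊔ N = ⊤ := by
      rw [sup_comm, hN]
      exact Sylow.normalizer_sup_eq_top' P hPK
    exact hKt (top_le_iff.1 (hperf ▸ commutator_le_of_sup K N hsup fun x hx y hy =>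
      hPK (hCP ▸ commutator_mem_centralizer P hP hx hy)))
  · have hKP : ∀ x ∈ (P : Subgroup G), x ∈ K → x = 1 := by
      intro x hx hxK
      by_contra hx1
      refine hpK ?_
      have h1 : orderOf x = p := by
        have := orderOf_dvd_natCard (⟨x, hx⟩ : (P : Subgroup G))
        rw [hP, Subgroup.orderOf_mk] at this
        exact ((Nat.dvd_prime hp).1 this).resolve_left fun e => hx1 (orderOf_eq_one_iff.1 e)
      rw [← h1, ← Subgroup.orderOf_mk x hxK]
      exact orderOf_dvd_natCard _
    have hKN : K ⊓ N = ⊥ := by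
      rw [eq_bot_iff]
      rintro k ⟨hk, hkN⟩
      have hkC : k ∈ centralizer ((P : Subgroup G) : Set G) := mem_centralizer_iff.2 fun x hx => by
        have h1 : k * x * k⁻¹ * x⁻¹ ∈ K := by
          rw [mul_assoc k, mul_assoc k]
          exact mul_mem hk (hK.conj_mem _ (inv_mem hk) x)
        have h2 : k * x * k⁻¹ * x⁻¹ ∈ (P : Subgroup G) :=
          mul_mem ((mem_normalizer_iff.1 hkN x).1 hx) (inv_mem hx)
        have := hKP _ h2 h1
        rw [mul_inv_eq_one, mul_inv_eq_iff_eq_mul] at this
        exact this.symm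
      exact hKP k (hCP ▸ hkC) hk
    have hfpf : Nat.card K ≡ 1 [MOD p] := by
      have h := Cfsg.Agent.Coprime.fpf_card_mod (A := (P : Subgroup G)) (K := K)
        (normalizer_eq_top_iff.2 hK ▸ le_top) (fun x hx hx1 => by
          rw [eq_bot_iff]
          rintro k ⟨hk, hkx⟩
          have hz : (centralizer ({x} : Set G)) = (P : Subgroup G) := by
            rw [← centralizer_closure, ← zpowers_eq_closure, Centralize.sylow_le_iff_mem hx hx1 hP, hCP]
          exact hKP k (hz ▸ hkx) hk)
      rw [hP] at h
      exact h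
    -- the index of `K N`
    have hcard : Nat.card (Sylow p G) = Nat.card K * (K ⊔ N).index := by
      have h1 : Nat.card ↥(K ⊔ N) = Nat.card K * Nat.card N := by
        have := Nat.card_congr (Equiv.ofBijective
          (fun x : K × N => (⟨(x.1 : G) * x.2, mul_mem (mem_sup_left x.1.2) (mem_sup_right x.2.2)⟩ : ↥(K ⊔ N)))
          ⟨fun x y hxy => by
            have h := congrArg Subtype.val hxy
            simp only at h
            have hmem : (y.1 : G)⁻¹ * x.1 ∈ K ⊓ N := by
              refine ⟨K.mul_mem (K.inv_mem y.1.2) x.1.2, ?_⟩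
              have : (y.1 : G)⁻¹ * x.1 = y.2 * (x.2 : G)⁻¹ := by
                rw [inv_mul_eq_iff_eq_mul, ← mul_assoc, eq_mul_inv_iff_mul_eq, h]
              rw [this]; exact N.mul_mem y.2.2 (N.inv_mem x.2.2)
            rw [hKN, mem_bot, inv_mul_eq_one] at hmem
            exact Prod.ext (Subtype.ext hmem.symm) (Subtype.ext (mul_left_cancel (hmem.symm ▸ h : (y.1 : G) * x.2 = y.1 * y.2))),
          fun z => by
            obtain ⟨k, hk, n, hn, hkn⟩ := mem_sup_of_normal_left.1 z.2
            exact ⟨(⟨k, hk⟩, ⟨n, hn⟩), Subtype.ext hkn⟩⟩)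
        rw [Nat.card_prod] at this
        exact this.symm
      have h2 := (K ⊔ N).card_mul_index
      have h3 := Basic.card_normalizer_mul P
      rw [h1] at h2
      refine Nat.eq_of_mul_eq_mul_left (Nat.card_pos (α := N)) ?_
      rw [h3, ← h2]; ring
    have hidx : (K ⊔ N).index ≡ 1 [MOD p] := by
      have h := card_sylow_modEq_one p G
      rw [hcard] at h
      calc (K ⊔ N).index = 1 * (K ⊔ N).index := (one_mul _).symm
        _ ≡ Nat.card K * (K ⊔ N).index [MOD p] := hfpf.symm.mul_right _
        _ ≡ 1 [MOD p] := h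
    have hK1 : p + 1 ≤ Nat.card K := by
      haveI : Nontrivial K := (K.nontrivial_iff_ne_bot).2 hKb
      have h1 := Finite.one_lt_card (α := K)
      obtain ⟨c, hc⟩ := (Nat.modEq_iff_dvd' h1.le).1 hfpf.symm
      rcases Nat.eq_zero_or_pos c with rfl | hc0
      · omega
      · have := Nat.le_mul_of_pos_right p hc0; omega
    have hI1 : p + 1 ≤ (K ⊔ N).index := by
      have h0 : (K ⊔ N).index ≠ 0 := index_ne_zero_of_finite
      have hne : (K ⊔ N).index ≠ 1 := fun hi => by
        rw [index_eq_one] at hi
        haveI hn' : (K ⊔ (P : Subgroup G)).Normal := by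
          refine normalizer_eq_top_iff.1 (top_le_iff.1 (hi ▸ sup_le ?_ ?_))
          · exact le_sup_left.trans le_normalizer
          · intro x hx
            refine mem_normalizer_iff.2 fun y => ?_
            have hmap : (K ⊔ (P : Subgroup G)).map (MulAut.conj x).toMonoidHom = K ⊔ (P : Subgroup G) := by
              rw [Subgroup.map_sup]
              congr 1
              · exact eq_of_le_of_card_ge (by rintro - ⟨k, hk, rfl⟩; exact hK.conj_mem k hk x)
                  (card_map_of_injective (MulAut.conj x).injective).ge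
              · exact eq_of_le_of_card_ge (by rintro - ⟨k, hk, rfl⟩; exact (mem_normalizer_iff.1 hx k).1 hk)
                  (card_map_of_injective (MulAut.conj x).injective).ge
            constructor
            · intro hy; rw [← hmap]; exact ⟨y, hy, rfl⟩
            · intro hy
              rw [← hmap] at hy
              obtain ⟨w, hw, hwy⟩ := hy
              rwa [← (MulAut.conj x).injective hwy]
        have htop : K ⊔ (P : Subgroup G) = ⊤ := top_le_iff.1 (hperf ▸ commutator_le_of_sup _ N
          (top_le_iff.1 (hi ▸ sup_le_sup_right le_sup_left N)) fun x hx y hy =>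
            mem_sup_right (hCP ▸ commutator_mem_centralizer P hP hx hy))
        exact hKt (top_le_iff.1 (hperf ▸ commutator_le_of_sup K (P : Subgroup G) htop fun x hx y hy => by
          letI := IsCyclic.commGroup (α := (P : Subgroup G))
          have h : x * y = y * x := congrArg Subtype.val (mul_comm (⟨x, hx⟩ : (P : Subgroup G)) ⟨y, hy⟩)
          rw [h, mul_inv_cancel_right, mul_inv_cancel]
          exact one_mem K))
      obtain ⟨c, hc⟩ := (Nat.modEq_iff_dvd' (Nat.one_le_iff_ne_zero.2 h0)).1 hidx.symm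
      rcases Nat.eq_zero_or_pos c with rfl | hc0
      · omega
      · have := Nat.le_mul_of_pos_right p hc0; omega
    have := Nat.mul_le_mul hK1 hI1
    omega

/-- A perfect group with a self-centralizing element of prime order `p` and fewer than
`(p+1)(p+2)/2` Sylow `p`-subgroups. -/
theorem brauer_perfect (hperf : commutator G = ⊤) {z : G} (hz : orderOf z = p)
    (hCz : centralizer ({z} : Set G) = zpowers z)
    (hn : 2 * Nat.card (Sylow p G) < (p + 1) * (p + 2)) :
    (∃ (F : Type) (_ : Field F) (_ : Fintype F), Fintype.card F = p ∧ 3 < p ∧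
      Nonempty (G ≃* Matrix.ProjectiveSpecialLinearGroup (Fin 2) F)) ∨
    (∃ (m : ℕ) (F : Type) (_ : Field F) (_ : Fintype F), Fintype.card F = 2 ^ m ∧ p = 2 ^ m + 1 ∧ 3 < p ∧
      Nonempty (G ≃* Matrix.ProjectiveSpecialLinearGroup (Fin 2) F)) := by
  classical
  have hp : p.Prime := Fact.out
  obtain ⟨P, hzP⟩ := (IsPGroup.of_card (n := 1) (by rw [Nat.card_zpowers, hz, pow_one]) :
    IsPGroup p (zpowers z)).exists_le_sylow
  have hPe : (P : Subgroup G) = zpowers z := by
    refine le_antisymm ?_ hzP
    -- a central element of `P` lies in `zpowers z`, hence `z` is central in `P`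
    haveI : Nontrivial (P : Subgroup G) := by
      refine Finite.one_lt_card_iff_nontrivial.1 (lt_of_lt_of_le ?_
        (Nat.le_of_dvd Nat.card_pos (card_dvd_of_le hzP)))
      rw [Nat.card_zpowers, hz]; exact hp.one_lt
    haveI := P.2.center_nontrivial
    obtain ⟨w, hw⟩ := exists_ne (1 : center (P : Subgroup G))
    have hwz : ((w : (P : Subgroup G)) : G) ∈ zpowers z := by
      rw [← hCz, mem_centralizer_singleton_iff]
      exact (congrArg Subtype.val (mem_center_iff.1 w.2 ⟨z, hzP (mem_zpowers z)⟩)).symm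
    have hwgen : zpowers ((w : (P : Subgroup G)) : G) = zpowers z := by
      refine eq_of_le_of_card_ge (zpowers_le.2 hwz) ?_
      rw [Nat.card_zpowers, Nat.card_zpowers, hz]
      have hd := orderOf_dvd_natCard (⟨_, hwz⟩ : zpowers z)
      rw [Nat.card_zpowers, hz, Subgroup.orderOf_mk] at hd
      rcases (Nat.dvd_prime hp).1 hd with e | e
      · exact absurd (Subtype.ext (Subtype.ext (orderOf_eq_one_iff.1 e))) hw
      · exact e.ge
    intro g hg
    rw [← hCz, ← centralizer_closure, ← zpowers_eq_closure, ← hwgen, zpowers_eq_closure,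
      centralizer_closure, mem_centralizer_singleton_iff]
    exact congrArg Subtype.val (mem_center_iff.1 w.2 ⟨g, hg⟩)
  have hP : Nat.card (P : Subgroup G) = p := by rw [hPe, Nat.card_zpowers, hz]
  have hC : Nat.card (centralizer ((P : Subgroup G) : Set G)) = p := by
    rw [hPe, zpowers_eq_closure, centralizer_closure, hCz, Nat.card_zpowers, hz]
  haveI := isSimpleGroup_of_perfect hperf P hP hC (by nlinarith)
  have hG : ¬ IsMulCommutative G := fun h => by
    have : commutator G = ⊥ := by
      rw [commutator_def, eq_bot_iff, commutator_le]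
      intro a _ b _
      rw [mem_bot, commutatorElement_eq_one_iff_mul_comm]
      exact h.is_comm.comm a b
    rw [hperf] at this
    exact top_ne_bot this
  obtain ⟨r, hr⟩ : ∃ r, Nat.card (Sylow p G) = 1 + r * p := by
    have h := card_sylow_modEq_one p G
    have hpos : 1 ≤ Nat.card (Sylow p G) := Nat.card_pos
    obtain ⟨c, hc⟩ := (Nat.modEq_iff_dvd' hpos).1 h.symm
    exact ⟨c, by rw [mul_comm c p]; omega⟩
  refine brauer hG P hP hC hr (not_third ?_)
  rw [hr] at hn
  nlinarith

end Cfsg.Agent.PrimeBlock.Brauer
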