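import Cfsg.Agent.Lib.PrimeBlock.Brauer.Cube
import Cfsg.Agent.Lib.PrimeBlock.Brauer.Perfect
import Cfsg.Agent.Lib.Classical.SmallIso
import Cfsg.Agent.Lib.Classical.GL2

/-!
# Perfect groups of order less than the cube of a prime divisor
-/

set_option linter.style.haveILetI false
set_option linter.unusedSectionVars false

namespace Cfsg.Agent.PrimeBlock.Brauer

open Subgroup
open Cfsg.Agent.SmallSimple

universe u

theorem eq_top_of_index_le_two {G : Type u} [Group G] [Finite G] (hperf : commutator G = ⊤) (M : Subgroup G)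
    [M.Normal] (hM : M.index ≤ 2) : M = ⊤ := by
  have h0 : M.index ≠ 0 := index_ne_zero_of_finite
  rcases (show M.index = 1 ∨ M.index = 2 by omega) with h | h
  · exact index_eq_one.1 h
  · have h2 : Nat.card (G ⧸ M) = 2 := h
    haveI : Fact (Nat.Prime 2) := ⟨Nat.prime_two⟩
    haveI : IsCyclic (G ⧸ M) := isCyclic_of_prime_card h2
    letI := IsCyclic.commGroup (α := G ⧸ M)
    refine top_le_iff.1 (hperf ▸ ?_)
    rw [_root_.commutator_def, Subgroup.commutator_le]
    intro a _ b _
    rw [← QuotientGroup.eq_one_iff, commutatorElement_def, QuotientGroup.mk_mul, QuotientGroup.mk_mul,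
      QuotientGroup.mk_mul, QuotientGroup.mk_inv, QuotientGroup.mk_inv]
    exact commutatorElement_eq_one_iff_mul_comm.2 (mul_comm _ _)

/-- The order of the simple group found is more than half of `p (p² - 1)`. -/
theorem card_bound {M : Type u} [Group M] [Finite M] {p : ℕ}
    (h : (∃ (F : Type) (_ : Field F) (_ : Fintype F), Fintype.card F = p ∧ 3 < p ∧
      Nonempty (M ≃* Matrix.ProjectiveSpecialLinearGroup (Fin 2) F)) ∨
    (∃ (m : ℕ) (F : Type) (_ : Field F) (_ : Fintype F), Fintype.card F = 2 ^ m ∧ p = 2 ^ m + 1 ∧ 3 < p ∧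
      Nonempty (M ≃* Matrix.ProjectiveSpecialLinearGroup (Fin 2) F))) : p ^ 3 ≤ 3 * Nat.card M := by
  rcases h with ⟨F, iF, iFt, hF, hp3, ⟨e⟩⟩ | ⟨m, F, iF, iFt, hF, hpm, hp3, ⟨e⟩⟩
  · have h := Classical.SmallIso.natCard_pslTwo F
    rw [Classical.GL2.natCard_SL_two, hF, ← Nat.card_congr e.toEquiv] at h
    have hg : Nat.gcd 2 (p - 1) ≤ 2 := Nat.gcd_le_left _ (by norm_num)
    have h1 := Nat.mul_le_mul_right (Nat.card M) hg
    rw [h] at h1
    have h2 : p * ((p - 1) * (p + 1)) + p = p ^ 3 := by
      obtain ⟨c, rfl⟩ : ∃ c, p = c + 1 := ⟨p - 1, by omega⟩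
      rw [Nat.add_sub_cancel]; ring
    have : 3 * p ≤ p ^ 3 := by
      rw [pow_succ]
      exact Nat.mul_le_mul_right _ (by nlinarith)
    omega
  · have h := Classical.SmallIso.natCard_pslTwo F
    have hg : Nat.gcd 2 (2 ^ m - 1) = 1 := by
      have hm : m ≠ 0 := by rintro rfl; simp at hpm; omega
      refine Nat.Prime.coprime_iff_not_dvd Nat.prime_two |>.2 ?_
      have := dvd_pow_self 2 hm
      have := Nat.one_le_two_pow (n := m)
      omega
    rw [Classical.GL2.natCard_SL_two, hF, hg, one_mul, ← Nat.card_congr e.toEquiv] at h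
    obtain ⟨q, hq⟩ : ∃ q, 2 ^ m = q := ⟨_, rfl⟩
    rw [hq] at h hpm
    subst hpm
    rw [h]
    have hm2 : 4 ≤ q := by
      rw [← hq]
      rcases Nat.lt_or_ge m 2 with hm | hm
      · interval_cases m <;> simp at hq <;> omega
      · exact le_trans (by norm_num) (Nat.pow_le_pow_right Nat.two_pos hm)
    obtain ⟨c, rfl⟩ : ∃ c, q = c + 4 := ⟨q - 4, by omega⟩
    simp only [show c + 4 - 1 = c + 3 by omega]
    nlinarith [Nat.zero_le (c * c * c), Nat.zero_le (c * c)]

/-- A perfect group of order less than `p³` with a non-normal Sylow `p`-subgroup is simple modulo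
a normal subgroup of order at most two. -/
theorem isSimpleGroup_of_perfect_cube {G : Type u} [Group G] [Finite G] (hperf : commutator G = ⊤)
    (p : ℕ) [Fact p.Prime] (hdvd : p ∣ Nat.card G) (hbig : Nat.card G < p ^ 3) (P : Sylow p G)
    (hP : ¬ (P : Subgroup G).Normal) (h2 : ∀ N : Subgroup G, N.Normal → Nat.card N ≠ 2) :
    IsSimpleGroup G ∧ ¬ IsMulCommutative G := by
  classical
  have hp : p.Prime := Fact.out
  have hn : 1 < Nat.card (Sylow p G) := by
    by_contra hle
    haveI : Subsingleton (Sylow p G) := Finite.card_le_one_iff_subsingleton.1 (by omega)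
    exact hP P.normal_of_subsingleton
  have hsylow : (Nat.card G).factorization p = 1 := by
    have hpos := hp.factorization_pos_of_dvd Nat.card_pos.ne' hdvd
    by_contra hne
    have h2' : p ^ 2 ∣ Nat.card (P : Subgroup G) := by
      rw [Basic.card_sylow_eq]; exact pow_dvd_pow p (by omega)
    have h5 := Nat.mul_le_mul_right (Nat.card (Sylow p G)) (Nat.le_of_dvd Nat.card_pos
      (h2'.trans (card_dvd_of_le (le_normalizer (H := (P : Subgroup G))))))
    rw [Basic.card_normalizer_mul P] at h5
    have hp1 : p + 1 ≤ Nat.card (Sylow p G) := by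
      obtain ⟨c, hc⟩ := (Nat.modEq_iff_dvd' Nat.card_pos).1 (card_sylow_modEq_one p G).symm
      rcases Nat.eq_zero_or_pos c with rfl | hc0
      · omega
      · have := Nat.le_mul_of_pos_right p hc0; omega
    have h6 := Nat.mul_le_mul_left (p ^ 2) hp1
    rw [pow_succ] at hbig
    nlinarith
  -- the largest normal subgroup of order prime to `p`
  haveI := Fintype.ofFinite (Subgroup G)
  obtain ⟨R, hR, hmax⟩ := Finset.exists_max_image
    (Finset.univ.filter fun N : Subgroup G => N.Normal ∧ ¬ p ∣ Nat.card N)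
    (fun N => Nat.card N) ⟨⊥, Finset.mem_filter.2 ⟨Finset.mem_univ _, inferInstance, by
      rw [card_bot]; exact fun h => hp.ne_one (Nat.dvd_one.1 h)⟩⟩
  obtain ⟨hRn, hRp⟩ := (Finset.mem_filter.1 hR).2
  haveI := hRn
  let π := QuotientGroup.mk' R
  have hπ : Function.Surjective π := QuotientGroup.mk'_surjective R
  have hcardQ : Nat.card (G ⧸ R) * Nat.card R = Nat.card G := R.card_eq_card_quotient_mul_card_subgroup.symm
  have hpQ : p ∣ Nat.card (G ⧸ R) := by
    rcases hp.dvd_mul.1 (hcardQ ▸ hdvd) with h | h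
    · exact h
    · exact absurd h hRp
  have hQperf : commutator (G ⧸ R) = ⊤ := by
    rw [← Subgroup.map_top_of_surjective π hπ, ← hperf, map_commutator_eq, MonoidHom.range_eq_top.2 hπ,
      ← _root_.commutator_def]
  have hnormal : ∀ K : Subgroup (G ⧸ R), K.Normal → ¬ p ∣ Nat.card K → K = ⊥ := by
    intro K hK hKp
    have hcard : Nat.card (K.comap π) = Nat.card K * Nat.card R := by
      have h1 : (K.comap π).index = K.index := index_comap_of_surjective K hπ
      have h2 := (K.comap π).card_mul_index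
      rw [h1, ← hcardQ, ← K.card_mul_index] at h2
      refine Nat.eq_of_mul_eq_mul_right (Nat.pos_of_ne_zero index_ne_zero_of_finite) (h2.trans ?_)
      ring
    have h3 := hmax (K.comap π) (Finset.mem_filter.2 ⟨Finset.mem_univ _, hK.comap π, fun h => by
      rw [hcard] at h
      exact (hp.dvd_mul.1 h).elim hKp hRp⟩)
    simp only [hcard] at h3
    refine (card_eq_one.1 ?_)
    have h4 := Nat.le_of_mul_le_mul_right (h3.trans (one_mul _).ge) (Nat.card_pos (α := R))
    have h5 := Nat.card_pos (α := K)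
    omega
  -- the Sylow subgroup of the quotient is not normal
  have hQfac : (Nat.card (G ⧸ R)).factorization p = 1 := by
    rw [← hsylow, ← hcardQ, Nat.factorization_mul Nat.card_pos.ne' Nat.card_pos.ne', Finsupp.add_apply,
      Nat.factorization_eq_zero_of_not_dvd hRp, add_zero]
  obtain ⟨Q⟩ : Nonempty (Sylow p (G ⧸ R)) := inferInstance
  have hQc : Nat.card (Q : Subgroup (G ⧸ R)) = p := by rw [Basic.card_sylow_eq, hQfac, pow_one]
  haveI : IsCyclic (Q : Subgroup (G ⧸ R)) := isCyclic_of_prime_card hQc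
  have hQn : ¬ (Q : Subgroup (G ⧸ R)).Normal := by
    intro hQn
    haveI := hQn
    have hN : normalizer ((Q : Subgroup (G ⧸ R)) : Set (G ⧸ R)) = ⊤ := normalizer_eq_top_iff.2 hQn
    have hC : centralizer ((Q : Subgroup (G ⧸ R)) : Set (G ⧸ R)) = ⊤ := top_le_iff.1 (hQperf ▸ by
      rw [_root_.commutator_def, Subgroup.commutator_le]
      intro a _ b _
      rw [commutatorElement_def]
      exact commutator_mem_centralizer Q hQc (hN ▸ mem_top a) (hN ▸ mem_top b))
    have hle : normalizer ((Q : Subgroup (G ⧸ R)) : Set (G ⧸ R)) ≤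
        centralizer ((Q : Subgroup (G ⧸ R)) : Set (G ⧸ R)) := by rw [hC]; exact le_top
    have hcompl := MonoidHom.ker_transferSylow_isComplement' Q hle
    set K := (MonoidHom.transferSylow Q hle).ker with hK
    have hidx : K.index = p := by rw [hcompl.symm.index_eq_card, hQc]
    haveI : Fact (Nat.card ((G ⧸ R) ⧸ K)).Prime := ⟨by rw [show Nat.card ((G ⧸ R) ⧸ K) = p from hidx]; exact hp⟩
    haveI : IsCyclic ((G ⧸ R) ⧸ K) := isCyclic_of_prime_card rfl
    letI := IsCyclic.commGroup (α := (G ⧸ R) ⧸ K)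
    have hKt : K = ⊤ := top_le_iff.1 (hQperf ▸ by
      rw [_root_.commutator_def, Subgroup.commutator_le]
      intro a _ b _
      rw [← QuotientGroup.eq_one_iff, commutatorElement_def, QuotientGroup.mk_mul, QuotientGroup.mk_mul,
        QuotientGroup.mk_mul, QuotientGroup.mk_inv, QuotientGroup.mk_inv]
      exact commutatorElement_eq_one_iff_mul_comm.2 (mul_comm _ _))
    rw [hKt, index_top] at hidx
    exact hp.ne_one hidx.symm
  -- a minimal normal subgroup
  haveI := Fintype.ofFinite (Subgroup (G ⧸ R))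
  obtain ⟨M, hM, hmin⟩ := Finset.exists_min_image
    (Finset.univ.filter fun N : Subgroup (G ⧸ R) => N.Normal ∧ N ≠ ⊥) (fun N => Nat.card N)
    ⟨⊤, Finset.mem_filter.2 ⟨Finset.mem_univ _, inferInstance, fun h => by
      have : Nat.card (G ⧸ R) = 1 := by rw [← Subgroup.card_top (G := G ⧸ R), h, card_bot]
      rw [this] at hpQ
      exact hp.ne_one (Nat.dvd_one.1 hpQ)⟩⟩
  obtain ⟨hMn, hMb⟩ := (Finset.mem_filter.1 hM).2
  haveI := hMn
  have hpM : p ∣ Nat.card M := by_contra fun h => hMb (hnormal M hMn h)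
  -- `M` contains every Sylow subgroup
  have hQM : ∀ S : Sylow p (G ⧸ R), (S : Subgroup (G ⧸ R)) ≤ M := by
    intro S
    obtain ⟨⟨k, hk⟩, hko⟩ := exists_prime_orderOf_dvd_card' (G := M) p hpM
    rw [Subgroup.orderOf_mk] at hko
    obtain ⟨T, hT⟩ := (IsPGroup.of_card (n := 1) (by rw [Nat.card_zpowers, hko, pow_one]) :
      IsPGroup p (zpowers k)).exists_le_sylow
    have hTM : (T : Subgroup (G ⧸ R)) ≤ M := by
      rw [← eq_of_le_of_card_ge hT (by rw [Basic.card_sylow_eq, hQfac, pow_one, Nat.card_zpowers, hko])]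
      exact zpowers_le.2 hk
    obtain ⟨a, ha⟩ := MulAction.exists_smul_eq (G ⧸ R) T S
    rw [← ha, Sylow.coe_subgroup_smul]
    rintro - ⟨q, hq, rfl⟩
    exact hMn.conj_mem q (hTM hq) a
  haveI : Nontrivial M := (M.nontrivial_iff_ne_bot).2 hMb
  have hMsimple : IsSimpleGroup M := ⟨fun L hL => by
    by_cases hLp : p ∣ Nat.card L
    · -- `L` contains every Sylow subgroup, and these generate `M`
      right
      haveI := hL
      let T : Subgroup (G ⧸ R) := ⨆ S : Sylow p (G ⧸ R), (S : Subgroup (G ⧸ R))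
      have hTn : T.Normal := by
        refine ⟨fun x hx a => ?_⟩
        have hmap : T.map (MulAut.conj a).toMonoidHom ≤ T := by
          rw [Subgroup.map_iSup]
          refine iSup_le fun S => le_trans (le_of_eq ?_) (le_iSup _ (a • S))
          rw [Sylow.coe_subgroup_smul]; rfl
        exact hmap ⟨x, hx, rfl⟩
      have hTb : T ≠ ⊥ := fun h => by
        have h1 : (Q : Subgroup (G ⧸ R)) ≤ ⊥ := h ▸ le_iSup (fun S : Sylow p (G ⧸ R) => (S : Subgroup (G ⧸ R))) Q
        rw [le_bot_iff] at h1
        rw [h1, card_bot] at hQc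
        exact hp.ne_one hQc.symm
      have hTM : T ≤ M := iSup_le hQM
      have hTeq : T = M := eq_of_le_of_card_ge hTM (hmin T (Finset.mem_filter.2 ⟨Finset.mem_univ _, hTn, hTb⟩))
      have hLS : ∀ S : Sylow p (G ⧸ R), (S : Subgroup (G ⧸ R)).subgroupOf M ≤ L := by
        intro S
        haveI : Fact p.Prime := inferInstance
        obtain ⟨⟨k, hk⟩, hko⟩ := exists_prime_orderOf_dvd_card' (G := L) p hLp
        rw [Subgroup.orderOf_mk] at hko
        have hfacM : (Nat.card M).factorization p = 1 := by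
          refine le_antisymm ?_ (hp.factorization_pos_of_dvd Nat.card_pos.ne' hpM)
          rw [← hQfac]
          exact (Nat.factorization_le_iff_dvd Nat.card_pos.ne' Nat.card_pos.ne').2 (card_subgroup_dvd_card M) p
        obtain ⟨T', hT'⟩ := (IsPGroup.of_card (n := 1) (by rw [Nat.card_zpowers, hko, pow_one]) :
          IsPGroup p (zpowers k)).exists_le_sylow
        have hT'L : (T' : Subgroup M) ≤ L := by
          rw [← eq_of_le_of_card_ge hT' (by rw [Basic.card_sylow_eq, hfacM, pow_one, Nat.card_zpowers, hko])]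
          exact zpowers_le.2 hk
        obtain ⟨a, ha⟩ := MulAction.exists_smul_eq M T' (S.subtype (hQM S))
        have : ((S.subtype (hQM S) : Sylow p M) : Subgroup M) ≤ L := by
          rw [← ha, Sylow.coe_subgroup_smul]
          rintro - ⟨q, hq, rfl⟩
          exact hL.conj_mem q (hT'L hq) a
        exact this
      rw [eq_top_iff]
      intro x _
      have hx : (x : G ⧸ R) ∈ L.map M.subtype := by
        refine (show T ≤ L.map M.subtype from iSup_le fun S y hy => ?_) (hTeq.symm ▸ x.2)
        exact ⟨⟨y, hQM S hy⟩, hLS S hy, rfl⟩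
      obtain ⟨y, hy, hyx⟩ := hx
      rwa [← Subtype.ext hyx]
    · -- the normal subgroups of order prime to `p` generate one in `G ⧸ R`
      left
      haveI := hL
      haveI := Fintype.ofFinite (Subgroup M)
      by_contra hLb
      obtain ⟨L', hL', hmax'⟩ := Finset.exists_max_image
        (Finset.univ.filter fun N : Subgroup M => N.Normal ∧ ¬ p ∣ Nat.card N)
        (fun N => Nat.card N) ⟨L, Finset.mem_filter.2 ⟨Finset.mem_univ _, hL, hLp⟩⟩
      obtain ⟨hL'n, hL'p⟩ := (Finset.mem_filter.1 hL').2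
      haveI := hL'n
      have hchar : (L'.map M.subtype).Normal := by
        refine ⟨fun x hx a => ?_⟩
        obtain ⟨y, hy, rfl⟩ := hx
        let φ : M ≃* M := (MulAut.conjNormal a : MulAut M)
        have hN : (L'.map φ.toMonoidHom).Normal := hL'n.map _ φ.surjective
        have hco : ¬ p ∣ Nat.card (L' ⊔ L'.map φ.toMonoidHom : Subgroup M) := by
          intro hd
          have h1 : Nat.card (L' ⊔ L'.map φ.toMonoidHom : Subgroup M) ∣
              Nat.card L' * Nat.card (L'.map φ.toMonoidHom) := by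
            haveI := hN
            have h2 := relIndex_mul_relIndex ⊥ L' (L' ⊔ L'.map φ.toMonoidHom) bot_le le_sup_left
            rw [relIndex_bot_left, relIndex_bot_left, Subgroup.relIndex_sup_left] at h2
            rw [← h2]
            refine mul_dvd_mul_left _ ?_
            have := relIndex_mul_relIndex ⊥ (L' ⊓ L'.map φ.toMonoidHom) (L'.map φ.toMonoidHom) bot_le inf_le_right
            rw [relIndex_bot_left, relIndex_bot_left, inf_relIndex_right] at this
            exact Dvd.intro_left _ this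
          rw [card_map_of_injective (f := φ.toMonoidHom) φ.injective] at h1
          exact (hp.dvd_mul.1 (hd.trans h1)).elim hL'p hL'p
        haveI := hN
        have h4 := hmax' _ (Finset.mem_filter.2 ⟨Finset.mem_univ _, inferInstance, hco⟩)
        have h5 : L'.map φ.toMonoidHom ≤ L' :=
          (le_sup_right.trans (eq_of_le_of_card_ge le_sup_left h4).ge)
        exact ⟨φ y, h5 ⟨y, hy, rfl⟩, rfl⟩
      have h6 := hnormal _ hchar (by rwa [card_map_of_injective M.subtype_injective])
      have h7 : L' = ⊥ := (Subgroup.map_eq_bot_iff_of_injective _ M.subtype_injective).1 h6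
      have h8 := hmax' L (Finset.mem_filter.2 ⟨Finset.mem_univ _, hL, hLp⟩)
      rw [h7, card_bot] at h8
      exact hLb (eq_bot_of_card_le _ h8)⟩
  have hMcomm : ¬ IsMulCommutative M := by
    intro hc
    letI : CommGroup M := { (inferInstance : Group M) with mul_comm := hc.is_comm.comm }
    haveI := hMsimple
    have hpr : (Nat.card M).Prime := IsSimpleGroup.prime_card
    have hMp : Nat.card M = p := ((Nat.prime_dvd_prime_iff_eq hp hpr).1 hpM).symm
    refine hQn ?_
    rw [eq_of_le_of_card_ge (hQM Q) (by rw [hMp, hQc])]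
    exact hMn
  haveI := hMsimple
  have hMle : Nat.card M ≤ Nat.card (G ⧸ R) := Nat.le_of_dvd Nat.card_pos (card_subgroup_dvd_card M)
  have hQle : Nat.card (G ⧸ R) ≤ Nat.card G := by
    rw [← hcardQ]; exact Nat.le_mul_of_pos_right _ Nat.card_pos
  have hiso := brauer_cube hMcomm hpM (lt_of_le_of_lt (hMle.trans hQle) hbig)
  have hb := card_bound hiso
  have hidx : M.index ≤ 2 := by
    by_contra hgt
    have h2 := M.card_mul_index
    have := Nat.mul_le_mul_left (Nat.card M) (show 3 ≤ M.index by omega)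
    omega
  have hMt : M = ⊤ := eq_top_of_index_le_two hQperf M hidx
  have hR1 : Nat.card R = 1 := by
    have h := Nat.card_pos (α := R)
    by_contra hne
    rcases Nat.lt_or_ge (Nat.card R) 3 with h3 | h3
    · exact h2 R hRn (by omega)
    · rw [hMt, card_top] at hb
      have := Nat.mul_le_mul_left (Nat.card (G ⧸ R)) h3
      omega
  have hRb : R = ⊥ := card_eq_one.1 hR1
  let e : M ≃* G := ((MulEquiv.subgroupCongr hMt).trans topEquiv).trans
    ((QuotientGroup.quotientMulEquivOfEq hRb).trans QuotientGroup.quotientBot)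
  haveI : Nontrivial G := e.symm.toEquiv.nontrivial
  exact ⟨IsSimpleGroup.isSimpleGroup_of_surjective e.toMonoidHom e.surjective,
    fun hc => hMcomm ⟨⟨fun a b => e.injective (by rw [map_mul, map_mul]; exact hc.is_comm.comm _ _)⟩⟩⟩

/-- `SL₂` is `PSL₂` over a field with `2^m` elements. -/
theorem sl_equiv_psl (F : Type) [Field F] [Fintype F] {m : ℕ} (hm : m ≠ 0) (hF : Fintype.card F = 2 ^ m) :
    Nonempty (Matrix.ProjectiveSpecialLinearGroup (Fin 2) F ≃* Matrix.SpecialLinearGroup (Fin 2) F) := by
  have h := Classical.SmallIso.natCard_pslTwo F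
  have hg : Nat.gcd 2 (2 ^ m - 1) = 1 := by
    refine Nat.Prime.coprime_iff_not_dvd Nat.prime_two |>.2 ?_
    have := dvd_pow_self 2 hm
    have := Nat.one_le_two_pow (n := m)
    omega
  rw [hF, hg, one_mul] at h
  haveI : Finite (Matrix.SpecialLinearGroup (Fin 2) F) := Finite.of_injective _ Subtype.val_injective
  exact ⟨(MulEquiv.ofBijective (QuotientGroup.mk' (center (Matrix.SpecialLinearGroup (Fin 2) F)))
    ((Nat.bijective_iff_surjective_and_card _).2 ⟨QuotientGroup.mk'_surjective _, h.symm⟩)).symm⟩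

end Cfsg.Agent.PrimeBlock.Brauer
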