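import Cfsg.Agent.Lib.PrimeBlock.Brauer.Fixed
import Cfsg.Agent.Lib.PrimeBlock.Tools
import Cfsg.Agent.Lib.SmallSimple.EvenPSL

/-!
# A self-centralizing subgroup of order `p`: the complement in the normalizer and the columns
-/

set_option linter.style.haveILetI false
set_option linter.unusedSectionVars false

namespace Cfsg.Agent.PrimeBlock.Brauer

open Cfsg.Agent.Characters Cfsg.Agent.Blocks Subgroup
open Cfsg.Agent.SmallSimple
open scoped ComplexConjugate

universe u

variable {G : Type u} [Group G] [Finite G] {p : ℕ} [Fact p.Prime] {P : Sylow p G} (D : PBlock P)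
  (hC : Nat.card (centralizer ((P : Subgroup G) : Set G)) = p)

theorem classFun_conj {χ : G → ℂ} (hχ : Cfsg.IsClassFunction G χ) {g h : G} (hc : IsConj g h) :
    χ g = χ h := by
  obtain ⟨a, ha⟩ := isConj_iff.1 hc
  rw [← ha, hχ g a]

theorem card_centralizer_conj {g h : G} (hc : IsConj g h) :
    Nat.card (centralizer ({h} : Set G)) = Nat.card (centralizer ({g} : Set G)) := by
  have h1 := card_carrier_mul_card_centralizer (G := G) h
  rw [← ConjClasses.mk_eq_mk_iff_isConj.2 hc] at h1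
  exact Nat.eq_of_mul_eq_mul_left (Nat.card_pos_iff.2
    ⟨⟨⟨g, ConjClasses.mem_carrier_mk⟩⟩, inferInstance⟩) (h1.trans (card_carrier_mul_card_centralizer g).symm)

theorem full_dvd {N a b l : ℕ} (hl : l.Prime) (h : N = a * b) (hb : ¬ l ∣ b) :
    l ^ N.factorization l ∣ a :=
  ((Nat.Prime.coprime_iff_not_dvd hl).2 hb).pow_left _ |>.dvd_of_dvd_mul_right (h ▸ Nat.ordProj_dvd N l)

include D hC in
theorem card_normalizer : Nat.card (normalizer ((P : Subgroup G) : Set G)) = p * D.e := by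
  have := relIndex_mul_relIndex ⊥ (centralizer ((P : Subgroup G) : Set G))
    (normalizer ((P : Subgroup G) : Set G)) bot_le (centralizer_le_normalizer _)
  rw [relIndex_bot_left, relIndex_bot_left, D.he, hC] at this
  exact this.symm

include D hC in
theorem card_group : Nat.card G = p * D.e * Nat.card (Sylow p G) := by
  rw [← Basic.card_normalizer_mul P, card_normalizer D hC]

include D in
theorem prime_dvd_card : p ∣ Nat.card G := D.card_P ▸ card_subgroup_dvd_card (P : Subgroup G)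

include D hC in
theorem centralizer_eq_sylow : centralizer ((P : Subgroup G) : Set G) = (P : Subgroup G) := by
  haveI : IsCyclic (P : Subgroup G) := isCyclic_of_prime_card D.card_P
  exact (eq_of_le_of_card_ge (le_centralizer _) (by rw [hC, D.card_P])).symm

include D hC in
/-- Every singular element has order `p` and is conjugate into `P`. -/
theorem singular {g : G} (hg : p ∣ orderOf g) :
    orderOf g = p ∧ ∃ x ∈ (P : Subgroup G), x ≠ 1 ∧ IsConj x g := by
  classical
  have ho : orderOf (g ^ (orderOf g / p)) = p := orderOf_pow_orderOf_div (orderOf_pos g).ne' hg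
  obtain ⟨Q, hQ⟩ := (IsPGroup.of_card (n := 1) (by rw [Nat.card_zpowers, ho, pow_one]) :
    IsPGroup p (zpowers (g ^ (orderOf g / p)))).exists_le_sylow
  have hQc : Nat.card (Q : Subgroup G) = p := by
    rw [Q.card_eq_multiplicity, ← P.card_eq_multiplicity, D.card_P]
  have hQe : zpowers (g ^ (orderOf g / p)) = (Q : Subgroup G) :=
    eq_of_le_of_card_ge hQ (by rw [Nat.card_zpowers, ho, hQc])
  have hmem : g ∈ centralizer ((Q : Subgroup G) : Set G) := by
    rw [← hQe, zpowers_eq_closure, centralizer_closure, mem_centralizer_singleton_iff]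
    exact (Commute.self_pow g _).eq
  haveI : IsCyclic (Q : Subgroup G) := isCyclic_of_prime_card hQc
  have hgQ : g ∈ (Q : Subgroup G) := by
    rwa [(eq_of_le_of_card_ge (le_centralizer _) (by rw [card_centralizer_sylow P Q, hC, hQc]) :
      (Q : Subgroup G) = centralizer ((Q : Subgroup G) : Set G))]
  have hop : orderOf g = p := by
    refine Nat.dvd_antisymm ?_ hg
    have := orderOf_dvd_natCard (⟨g, hgQ⟩ : (Q : Subgroup G))
    rwa [hQc, orderOf_mk] at this
  obtain ⟨a, rfl⟩ := MulAction.exists_smul_eq G P Q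
  rw [Sylow.coe_subgroup_smul] at hgQ
  obtain ⟨x, hx, hxg⟩ := hgQ
  refine ⟨hop, x, hx, fun e => ?_, isConj_iff.2 ⟨a, hxg⟩⟩
  subst e
  have hg1 : g = 1 := by rw [← hxg]; exact map_one (MulAut.conj a)
  rw [hg1, orderOf_one] at hop
  exact (Fact.out : p.Prime).ne_one hop.symm

include D hC in
theorem card_singular [Fintype G] :
    (Finset.univ.filter fun g : G => p ∣ orderOf g).card = Nat.card (Sylow p G) * (p - 1) := by
  classical
  have hQ : ∀ Q : Sylow p G, Nat.card (Q : Subgroup G) = p := fun Q => by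
    rw [Q.card_eq_multiplicity, ← P.card_eq_multiplicity, D.card_P]
  rw [← EvenPSL.card_union (fun Q : Sylow p G => (Q : Subgroup G)) hQ fun Q Q' g hg1 h1 h2 =>
    Sylow.ext ((Centralize.sylow_le_iff_mem h1 hg1 (hQ Q)).symm.trans
      (Centralize.sylow_le_iff_mem h2 hg1 (hQ Q'))), Nat.card_eq_fintype_card,
    Fintype.card_subtype]
  congr 1
  ext g
  simp only [Finset.mem_filter, Finset.mem_univ, true_and]
  constructor
  · intro h
    obtain ⟨ho, x, hx, hx1, hc⟩ := singular D hC h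
    obtain ⟨a, ha⟩ := isConj_iff.1 hc
    refine ⟨fun e => by rw [e, orderOf_one] at ho; exact (Fact.out : p.Prime).ne_one ho.symm, a • P, ?_⟩
    rw [Sylow.coe_subgroup_smul]
    exact ⟨x, hx, ha⟩
  · rintro ⟨hg1, Q, hgQ⟩
    have hd := orderOf_dvd_natCard (⟨g, hgQ⟩ : (Q : Subgroup G))
    rw [hQ, orderOf_mk] at hd
    rcases (Nat.dvd_prime Fact.out).1 hd with e | e
    · exact absurd (orderOf_eq_one_iff.1 e) hg1
    · rw [e]

include D hC in
theorem exists_complement :
    ∃ σ ∈ normalizer ((P : Subgroup G) : Set G), orderOf σ = D.e := by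
  classical
  rcases Nat.eq_or_lt_of_le (show 1 ≤ D.e from D.e_pos) with he1 | he1
  · exact ⟨1, one_mem _, by rw [orderOf_one, he1]⟩
  set N := normalizer ((P : Subgroup G) : Set G) with hN
  have hp : p.Prime := Fact.out
  haveI hPn : ((P : Subgroup G).subgroupOf N).Normal := Subgroup.normal_in_normalizer
  have hidx : ((P : Subgroup G).subgroupOf N).index = D.e := by
    have : ((P : Subgroup G).subgroupOf N).index = (P : Subgroup G).relIndex N := rfl
    rw [this, ← centralizer_eq_sylow D hC, D.he]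
  haveI : IsCyclic (N ⧸ (P : Subgroup G).subgroupOf N) := by
    haveI : IsCyclic (P : Subgroup G) := isCyclic_of_prime_card D.card_P
    obtain ⟨g, hg⟩ := IsCyclic.exists_generator (α := (P : Subgroup G))
    haveI : IsCyclic (MulAut (P : Subgroup G)) := by
      haveI : IsCyclic (ZMod (Nat.card (P : Subgroup G)))ˣ := by
        rw [D.card_P]; infer_instance
      exact isCyclic_of_surjective (IsCyclic.mulAutMulEquiv (P : Subgroup G)).symm (MulEquiv.surjective _)
    let f := (P : Subgroup G).normalizerMonoidHom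
    have hker : f.ker = (P : Subgroup G).subgroupOf N := by
      rw [Subgroup.normalizerMonoidHom_ker]
      exact congrArg (Subgroup.subgroupOf · N) (centralizer_eq_sylow D hC)
    exact isCyclic_of_injective ((QuotientGroup.kerLift f).comp
      (QuotientGroup.quotientMulEquivOfEq hker).symm.toMonoidHom)
      ((QuotientGroup.kerLift_injective f).comp (MulEquiv.injective _))
  obtain ⟨q, hq⟩ := IsCyclic.exists_generator (α := N ⧸ (P : Subgroup G).subgroupOf N)
  obtain ⟨σ, rfl⟩ := QuotientGroup.mk_surjective q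
  have hoq : orderOf (σ : N ⧸ (P : Subgroup G).subgroupOf N) = D.e := by
    rw [orderOf_eq_card_of_forall_mem_zpowers hq, ← hidx]
    rfl
  refine ⟨σ, σ.2, orderOf_eq_iff D.e_pos |>.2 ⟨?_, fun m hm hm0 h1 => ?_⟩⟩
  · have hy : ((σ : G) ^ D.e) ∈ (P : Subgroup G) := by
      have : (σ ^ D.e) ∈ (P : Subgroup G).subgroupOf N := by
        rw [← QuotientGroup.eq_one_iff, QuotientGroup.mk_pow, ← hoq, pow_orderOf_eq_one]
      simpa [Subgroup.mem_subgroupOf] using this
    by_contra hne
    have hσC : (σ : G) ∈ centralizer ((P : Subgroup G) : Set G) := by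
      rw [← D.centralizer_eq hy hne, mem_centralizer_singleton_iff]
      exact (Commute.self_pow (σ : G) _).eq
    rw [centralizer_eq_sylow D hC] at hσC
    have : (σ : N ⧸ (P : Subgroup G).subgroupOf N) = 1 := (QuotientGroup.eq_one_iff _).2 hσC
    rw [this, orderOf_one] at hoq
    omega
  · have : (σ : N ⧸ (P : Subgroup G).subgroupOf N) ^ m = 1 := by
      rw [← QuotientGroup.mk_pow, show σ ^ m = 1 from Subtype.ext h1, QuotientGroup.mk_one]
    have := orderOf_dvd_of_pow_eq_one this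
    rw [hoq] at this
    exact absurd (Nat.le_of_dvd hm0 this) (by omega)

/-- The characters outside the principal block. -/
noncomputable def outside [Fintype (Cfsg.IrrCharacter G)] : Finset (Cfsg.IrrCharacter G) :=
  open _root_.Classical in Finset.univ.filter fun χ => χ ∉ D.X ∧ χ ∉ D.Y

theorem mem_outside [Fintype (Cfsg.IrrCharacter G)] {χ : Cfsg.IrrCharacter G} :
    χ ∈ outside D ↔ χ ∉ Cfsg.principalBlock D.M G := by
  simp [outside, D.mem_block]

theorem sum_split [Fintype (Cfsg.IrrCharacter G)] [DecidableEq (Cfsg.IrrCharacter G)]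
    (ht : trivIrr G ∈ D.X) (f : Cfsg.IrrCharacter G → ℂ) :
    ∑ χ : Cfsg.IrrCharacter G, f χ =
      f (trivIrr G) + ∑ χ ∈ D.X.erase (trivIrr G), f χ + ∑ θ ∈ D.Y, f θ + ∑ ψ ∈ outside D, f ψ := by
  rw [Finset.add_sum_erase _ _ ht, ← Finset.sum_union D.disj, ← Finset.sum_union]
  · refine Finset.sum_congr (Eq.symm (Finset.eq_univ_iff_forall.2 fun χ => ?_)) fun _ _ => rfl
    simp only [Finset.mem_union, outside, Finset.mem_filter, Finset.mem_univ, true_and]
    tauto
  · refine Finset.disjoint_left.2 fun χ hχ hχ' => ?_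
    simp only [Finset.mem_union, outside, Finset.mem_filter, Finset.mem_univ, true_and] at hχ hχ'
    tauto

/-- The second orthogonality relation against the identity. -/
theorem sum_degree_mul [Fintype (Cfsg.IrrCharacter G)] {g : G} (hg : g ≠ 1) :
    ∑ χ : Cfsg.IrrCharacter G, (deg χ : ℂ) * (χ : G → ℂ) g = 0 := by
  have h := second_orthogonality (G := G) g 1
  rw [if_neg fun e => hg (isConj_one_left.1 e)] at h
  rw [← h]
  refine Finset.sum_congr rfl fun χ _ => ?_
  rw [← deg_cast, map_natCast, mul_comm]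

variable {σ : G} (hσN : σ ∈ normalizer ((P : Subgroup G) : Set G)) (hσ : orderOf σ = D.e)

include D hσ in
theorem orderOf_mem (s : zpowers σ) : orderOf (s : G) ∣ D.e ∧ ¬ p ∣ orderOf (s : G) := by
  have hd : orderOf (s : G) ∣ D.e := by
    rw [← hσ, ← Nat.card_zpowers σ, Subgroup.orderOf_coe]
    exact orderOf_dvd_natCard _
  refine ⟨hd, fun h => ?_⟩
  have := Nat.le_of_dvd D.e_pos (h.trans hd)
  have := D.e_lt
  omega

include D hC hσN hσ in
theorem conj_mul_sylow {s : zpowers σ} (hs : s ≠ 1) {y : G} (hy : y ∈ (P : Subgroup G)) :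
    IsConj ((s : G) * y) (s : G) := by
  classical
  have hsN : (s : G) ∈ normalizer ((P : Subgroup G) : Set G) := (zpowers_le.2 hσN) s.2
  have hfun : ∀ z : (P : Subgroup G), (s : G)⁻¹ * z * s * (z : G)⁻¹ ∈ (P : Subgroup G) := fun z =>
    mul_mem ((mem_normalizer_iff''.1 hsN z).1 z.2) (inv_mem z.2)
  let f : ↥(P : Subgroup G) → ↥(P : Subgroup G) := fun z => ⟨_, hfun z⟩
  have hf : Function.Injective f := by
    intro z z' h
    have h' : (s : G)⁻¹ * z * s * (z : G)⁻¹ = (s : G)⁻¹ * z' * s * (z' : G)⁻¹ := congrArg Subtype.val h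
    by_contra hne
    have hw1 : (z' : G)⁻¹ * z ≠ 1 := fun e => hne (Subtype.ext (inv_mul_eq_one.1 e).symm)
    have hw : (z' : G)⁻¹ * z ∈ (P : Subgroup G) := mul_mem (inv_mem z'.2) z.2
    have hcomm : (s : G) * ((z' : G)⁻¹ * z) = (z' : G)⁻¹ * z * s := by
      haveI : IsCyclic (P : Subgroup G) := isCyclic_of_prime_card D.card_P
      letI := IsCyclic.commGroup (α := (P : Subgroup G))
      have h1 : (z : G) * s * (z : G)⁻¹ = z' * s * (z' : G)⁻¹ := by
        rw [mul_assoc (s : G)⁻¹, mul_assoc (s : G)⁻¹, mul_assoc (s : G)⁻¹, mul_assoc (s : G)⁻¹] at h'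
        exact mul_left_cancel h'
      calc (s : G) * ((z' : G)⁻¹ * z) = (z' : G)⁻¹ * (z' * s * (z' : G)⁻¹) * z := by group
        _ = (z' : G)⁻¹ * z * s := by rw [← h1]; group
    have hsP : (s : G) ∈ (P : Subgroup G) := by
      rw [← centralizer_eq_sylow D hC, ← D.centralizer_eq hw hw1, mem_centralizer_singleton_iff]
      exact hcomm
    have hd := orderOf_dvd_natCard (⟨(s : G), hsP⟩ : (P : Subgroup G))
    rw [D.card_P, orderOf_mk] at hd
    rcases (Nat.dvd_prime Fact.out).1 hd with e | e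
    · exact hs (Subtype.ext (orderOf_eq_one_iff.1 e))
    · exact (orderOf_mem D hσ s).2 (dvd_of_eq e.symm)
  obtain ⟨z, hz⟩ := (Finite.injective_iff_surjective.1 hf) ⟨y, hy⟩
  have hz' : (s : G)⁻¹ * z * s * (z : G)⁻¹ = y := congrArg Subtype.val hz
  refine isConj_iff.2 ⟨(z : G)⁻¹, ?_⟩
  rw [← hz']
  group

include D hC hσN hσ in
/-- The character of `E` on the fixed points of `P`. -/
theorem exists_fixed {χ : G → ℂ} (hχ : Cfsg.IsCharacter G χ) {w : ℂ}
    (hw : ∀ y ∈ (P : Subgroup G), y ≠ 1 → χ y = w) :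
    ∃ Φ : zpowers σ → ℂ, Cfsg.IsCharacter (zpowers σ) Φ ∧ (∀ s, s ≠ 1 → Φ s = χ (s : G)) ∧
      (p : ℂ) * Φ 1 = χ 1 + ((p : ℂ) - 1) * w := by
  classical
  haveI := Fintype.ofFinite (P : Subgroup G)
  have hp : (p : ℂ) ≠ 0 := Nat.cast_ne_zero.2 (Fact.out : p.Prime).ne_zero
  refine ⟨_, isCharacter_average hχ (P : Subgroup G) (zpowers σ) (zpowers_le.2 hσN), fun s hs => ?_, ?_⟩
  · rw [D.card_P, Finset.sum_congr rfl fun y _ => classFun_conj (char_isClassFunction hχ)
      (conj_mul_sylow D hC hσN hσ hs y.2), Finset.sum_const, Finset.card_univ,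
      ← Nat.card_eq_fintype_card, D.card_P, nsmul_eq_mul, inv_mul_cancel_left₀ hp]
  · rw [D.card_P, mul_inv_cancel_left₀ hp, ← Finset.add_sum_erase _ _ (Finset.mem_univ 1)]
    simp only [OneMemClass.coe_one, one_mul]
    rw [Finset.sum_congr (s₁ := Finset.univ.erase (1 : ↥(P : Subgroup G))) rfl fun y hy =>
      hw (y : G) y.2 fun e => (Finset.mem_erase.1 hy).1 (Subtype.ext e),
      Finset.sum_const, Finset.card_erase_of_mem (Finset.mem_univ _), Finset.card_univ,
      ← Nat.card_eq_fintype_card, D.card_P, nsmul_eq_mul, Nat.cast_sub (Fact.out : p.Prime).one_le]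
    simp

include D hC hσN hσ in
/-- The outside characters are constant on `E`. -/
theorem outside_const [Fintype (Cfsg.IrrCharacter G)] [Fintype (zpowers σ)] {r : ℕ}
    (hsum : ∀ s : zpowers σ, s ≠ 1 → ∑ ψ ∈ outside D, (deg ψ : ℂ) * (ψ : G → ℂ) s = (r : ℂ) * p)
    (hsq : ∑ ψ ∈ outside D, (deg ψ : ℂ) ^ 2 = (r : ℂ) * (p : ℂ) ^ 2) :
    ∃ m : Cfsg.IrrCharacter G → ℕ, (∑ ψ ∈ outside D, (m ψ : ℂ) ^ 2 = r) ∧
      ∀ ψ ∈ outside D, (deg ψ : ℂ) = (p : ℂ) * m ψ ∧
        ∀ s : zpowers σ, s ≠ 1 → (ψ : G → ℂ) s = (m ψ : ℂ) := by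
  classical
  have hp : (p : ℂ) ≠ 0 := Nat.cast_ne_zero.2 (Fact.out : p.Prime).ne_zero
  have key : ∀ ψ : Cfsg.IrrCharacter G, ∃ (m k : ℕ) (Φ : zpowers σ → ℂ), ψ ∈ outside D →
      Cfsg.IsCharacter (zpowers σ) Φ ∧ Φ 1 = (m : ℂ) ∧ (deg ψ : ℂ) = (p : ℂ) * m ∧
      (∀ s, s ≠ 1 → Φ s = (ψ : G → ℂ) s) ∧ Cfsg.classInner Φ (fun _ => 1) = (k : ℂ) := by
    intro ψ
    by_cases hψ : ψ ∈ outside D
    swap
    · exact ⟨0, 0, 0, fun h => absurd h hψ⟩
    obtain ⟨Φ, hΦ, hΦs, hΦ1⟩ := exists_fixed D hC hσN hσ (irr_isCharacter ψ) (w := 0) fun y hy hy1 =>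
      D.eq_zero_of_notMem hC ((mem_outside D).1 hψ) hy hy1
    obtain ⟨m, hm⟩ := char_one_nat hΦ
    obtain ⟨k, hk⟩ := classInner_char_nat hΦ isCharacter_one
    refine ⟨m, k, Φ, fun _ => ⟨hΦ, hm, ?_, hΦs, hk⟩⟩
    rw [hm, mul_zero, add_zero, ← deg_cast] at hΦ1
    exact hΦ1.symm
  choose m k Φ hkey using key
  have hm2 : ∑ ψ ∈ outside D, (m ψ : ℂ) ^ 2 = r := by
    refine mul_left_cancel₀ (pow_ne_zero 2 hp) ?_
    rw [mul_comm _ (r : ℂ), ← hsq, Finset.mul_sum]
    refine Finset.sum_congr rfl fun ψ hψ => ?_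
    rw [(hkey ψ hψ).2.2.1]; ring
  have hle : ∀ ψ ∈ outside D, k ψ ≤ m ψ := by
    intro ψ hψ
    obtain ⟨hΦ, h1, -, -, hk⟩ := hkey ψ hψ
    haveI := Fintype.ofFinite (Cfsg.IrrCharacter (zpowers σ))
    obtain ⟨n, hn, hinner⟩ := exists_mult hΦ
    have hk' : n (trivIrr (zpowers σ)) = k ψ := by
      have := hinner (trivIrr (zpowers σ))
      rw [show ((trivIrr (zpowers σ) : Cfsg.IrrCharacter (zpowers σ)) : zpowers σ → ℂ) = fun _ => 1
        from rfl, hk] at this
      exact_mod_cast this.symm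
    have h := congrFun hn 1
    simp only [Finset.sum_apply, Pi.smul_apply, smul_eq_mul, h1, ← deg_cast] at h
    have h' : m ψ = ∑ μ : Cfsg.IrrCharacter (zpowers σ), n μ * deg μ := by exact_mod_cast h
    rw [h', ← hk']
    refine le_trans ?_ (Finset.single_le_sum (f := fun μ => n μ * deg μ) (fun _ _ => Nat.zero_le _)
      (Finset.mem_univ (trivIrr (zpowers σ))))
    simp [deg_trivIrr]
  -- the weighted sum is constant on `E`
  have hZ : ∀ s : zpowers σ, ∑ ψ ∈ outside D, (m ψ : ℂ) * Φ ψ s = r := by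
    intro s
    by_cases hs : s = 1
    · subst hs
      rw [← hm2]
      exact Finset.sum_congr rfl fun ψ hψ => by rw [(hkey ψ hψ).2.1]; ring
    · refine mul_left_cancel₀ hp ?_
      rw [mul_comm _ (r : ℂ), ← hsum s hs, Finset.mul_sum]
      exact Finset.sum_congr rfl fun ψ hψ => by
        rw [(hkey ψ hψ).2.2.2.1 s hs, (hkey ψ hψ).2.2.1]; ring
  have hzero : ∑ ψ ∈ outside D, m ψ * (m ψ - k ψ) = 0 := by
    have hmk : ∑ ψ ∈ outside D, (m ψ : ℂ) * k ψ = r := by
      calc ∑ ψ ∈ outside D, (m ψ : ℂ) * k ψ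
          = (Nat.card (zpowers σ) : ℂ)⁻¹ * ∑ s : zpowers σ, ∑ ψ ∈ outside D, (m ψ : ℂ) * Φ ψ s := by
            rw [Finset.sum_comm, Finset.mul_sum]
            refine Finset.sum_congr rfl fun ψ hψ => ?_
            rw [← (hkey ψ hψ).2.2.2.2, classInner_def, ← Finset.mul_sum]
            simp only [map_one, mul_one]
            ring
        _ = (r : ℂ) := by
            rw [Finset.sum_congr rfl fun s _ => hZ s, Finset.sum_const, Finset.card_univ,
              ← Nat.card_eq_fintype_card, nsmul_eq_mul, inv_mul_cancel_left₀ natCard_ne_zero]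
    have : ((∑ ψ ∈ outside D, m ψ * (m ψ - k ψ) : ℕ) : ℂ) = 0 := by
      rw [Nat.cast_sum, Finset.sum_congr rfl fun ψ hψ => by
        rw [Nat.cast_mul, Nat.cast_sub (hle ψ hψ), mul_sub, ← sq], Finset.sum_sub_distrib, hm2, hmk,
        sub_self]
    exact_mod_cast this
  refine ⟨m, hm2, fun ψ hψ => ⟨(hkey ψ hψ).2.2.1, fun s hs => ?_⟩⟩
  obtain ⟨hΦ, h1, hd, hΦs, hk⟩ := hkey ψ hψ
  rw [← hΦs s hs]
  refine eq_const_of_classInner_one hΦ h1 ?_ s
  rcases Nat.mul_eq_zero.1 ((Finset.sum_eq_zero_iff.1 hzero) ψ hψ) with e | e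
  · have : deg ψ = 0 := by
      have h' := hd
      rw [e, Nat.cast_zero, mul_zero] at h'
      exact_mod_cast h'
    exact absurd this (charDegree_pos ψ).ne'
  · rw [hk]
    have := hle ψ hψ
    exact_mod_cast (by omega : k ψ = m ψ)

include D hC hσN hσ in
/-- A character of degree `n = 1 + r p` of the block, with value `1` on `P#`. -/
theorem exists_plus {χ : G → ℂ} (hχ : Cfsg.IsCharacter G χ) {r : ℕ}
    (h1 : χ 1 = ((1 + r * p : ℕ) : ℂ)) (hw : ∀ y ∈ (P : Subgroup G), y ≠ 1 → χ y = 1) :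
    ∃ Φ : zpowers σ → ℂ, Cfsg.IsCharacter (zpowers σ) Φ ∧ (∀ s, s ≠ 1 → Φ s = χ (s : G)) ∧
      Φ 1 = ((r + 1 : ℕ) : ℂ) := by
  obtain ⟨Φ, h, hs, h1'⟩ := exists_fixed D hC hσN hσ hχ hw
  refine ⟨Φ, h, hs, mul_left_cancel₀ (Nat.cast_ne_zero.2 (Fact.out : p.Prime).ne_zero) ?_⟩
  rw [h1', h1]
  push_cast
  ring

theorem sum_erase_one [Fintype (zpowers σ)] [DecidableEq (zpowers σ)] {Φ : zpowers σ → ℂ} {χ : G → ℂ}
    (hs : ∀ s, s ≠ 1 → Φ s = χ (s : G)) :
    ∑ s : zpowers σ, χ (s : G) = χ 1 - Φ 1 + ∑ s : zpowers σ, Φ s := by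
  rw [← Finset.add_sum_erase _ _ (Finset.mem_univ 1), ← Finset.add_sum_erase _ Φ (Finset.mem_univ 1),
    Finset.sum_congr rfl fun s hs' => (hs s (Finset.mem_erase.1 hs').1).symm]
  simp only [OneMemClass.coe_one]
  ring

/-- The conjugates of `g` in `E`. -/
noncomputable def fibre (σ g : G) [Fintype (zpowers σ)] : Finset (zpowers σ) :=
  open _root_.Classical in Finset.univ.filter fun j : zpowers σ => IsConj g (j : G)

theorem mem_fibre {σ g : G} [Fintype (zpowers σ)] {j : zpowers σ} : j ∈ fibre σ g ↔ IsConj g (j : G) := by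
  simp [fibre]

open _root_.Classical in
/-- The column sums over `E` count the conjugates in `E`. -/
theorem count_conj [Fintype (Cfsg.IrrCharacter G)] [Fintype (zpowers σ)] (g : G) :
    ∑ χ : Cfsg.IrrCharacter G, (χ : G → ℂ) g * conj (∑ j : zpowers σ, (χ : G → ℂ) (j : G)) =
      (((fibre σ g).card * Nat.card (centralizer ({g} : Set G)) : ℕ) : ℂ) := by
  rw [fibre]
  simp only [map_sum, Finset.mul_sum]
  rw [Finset.sum_comm, Finset.sum_congr rfl fun (j : zpowers σ) _ => second_orthogonality g (j : G),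
    ← Finset.sum_filter, Finset.sum_congr rfl fun j hj => by
      rw [card_centralizer_conj (Finset.mem_filter.1 hj).2], Finset.sum_const, nsmul_eq_mul, Nat.cast_mul]

include D hσ in
open _root_.Classical in
/-- The conjugates of `E#`. -/
theorem card_union_conj [Fintype G] [Fintype (zpowers σ)] {K : ℕ}
    (hK : ∀ i : zpowers σ, i ≠ 1 → (fibre σ (i : G)).card *
      Nat.card (centralizer ({(i : G)} : Set G)) = K) :
    K * (Finset.univ.filter fun g : G => ∃ s : zpowers σ, s ≠ 1 ∧ IsConj g (s : G)).card =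
      (D.e - 1) * Nat.card G := by
  have hcard : Fintype.card (zpowers σ) = D.e := by
    rw [← Nat.card_eq_fintype_card, Nat.card_zpowers, hσ]
  calc K * (Finset.univ.filter fun g : G => ∃ s : zpowers σ, s ≠ 1 ∧ IsConj g (s : G)).card
      = ∑ g : G, ∑ s ∈ (Finset.univ.erase (1 : zpowers σ)),
          if IsConj g (s : G) then Nat.card (centralizer ({(s : G)} : Set G)) else 0 := by
        rw [← Finset.sum_filter_add_sum_filter_not Finset.univ
          (fun g : G => ∃ s : zpowers σ, s ≠ 1 ∧ IsConj g (s : G))]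
        rw [Finset.sum_eq_zero (s := Finset.univ.filter fun g : G => ¬ _) fun g hg =>
          Finset.sum_eq_zero fun s hs => if_neg fun h =>
            (Finset.mem_filter.1 hg).2 ⟨s, (Finset.mem_erase.1 hs).1, h⟩, add_zero]
        rw [Finset.sum_congr rfl fun g hg => ?_, Finset.sum_const, smul_eq_mul, mul_comm]
        obtain ⟨s0, hs0, hc0⟩ := (Finset.mem_filter.1 hg).2
        have hg1 : g ≠ 1 := fun e => hs0 (Subtype.ext (isConj_one_right.1 (e ▸ hc0)))
        rw [← Finset.sum_filter, ← hK s0 hs0]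
        have hset : (Finset.univ.erase (1 : zpowers σ)).filter (fun s : zpowers σ => IsConj g (s : G)) =
            fibre σ (s0 : G) := by
          ext j
          simp only [mem_fibre, Finset.mem_filter, Finset.mem_erase, Finset.mem_univ, and_true, ne_eq]
          refine ⟨fun h => hc0.symm.trans h.2, fun h => ⟨fun e => hs0 (Subtype.ext ?_), hc0.trans h⟩⟩
          subst e
          exact isConj_one_left.1 h
        rw [hset, Finset.sum_congr rfl fun j hj => ?_, Finset.sum_const, smul_eq_mul]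
        exact card_centralizer_conj (mem_fibre.1 hj)
    _ = ∑ s ∈ (Finset.univ.erase (1 : zpowers σ)), Nat.card G := by
        rw [Finset.sum_comm]
        refine Finset.sum_congr rfl fun s _ => ?_
        rw [← Finset.sum_filter, Finset.sum_const, smul_eq_mul,
          ← card_carrier_mul_card_centralizer (s : G)]
        congr 1
        rw [Nat.card_eq_fintype_card, Fintype.card_subtype]
        exact congrArg _ (by ext g; simp [ConjClasses.mem_carrier_iff_mk_eq, ConjClasses.mk_eq_mk_iff_isConj])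
    _ = _ := by
        rw [Finset.sum_const, Finset.card_erase_of_mem (Finset.mem_univ _), Finset.card_univ, hcard,
          smul_eq_mul]

end Cfsg.Agent.PrimeBlock.Brauer
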