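import Mathlib

/-!
# The degrees of the principal block when there are `1 + r p` Sylow subgroups of order `p`

`p = h e + 1`; a degree `x ≡ ±1` or `±e` modulo `p` dividing `(1 + r p) e` is of a few explicit
forms, unless `r` is one of the numbers `(h u p + u² + u + h)/(u + 1)`.
-/

namespace Cfsg.Agent.PrimeBlock.Brauer

/-- Brauer's third alternative. -/
def Third (p r : ℕ) : Prop :=
  ∃ h u : ℕ, 0 < h ∧ 0 < u ∧ r * (u + 1) = h * u * p + u ^ 2 + u + h

theorem third_of_int {p r : ℕ} {m u : ℤ} (hm : 0 < m) (hu : 0 < u)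
    (h : (r : ℤ) * (u + 1) = m * u * p + u ^ 2 + u + m) : Third p r := by
  lift m to ℕ using hm.le
  lift u to ℕ using hu.le
  exact ⟨m, u, by exact_mod_cast hm, by exact_mod_cast hu, by exact_mod_cast h⟩

theorem not_third {p r : ℕ} (hr : 2 * r ≤ p + 2) : ¬ Third p r := by
  rintro ⟨h, u, hh, hu, he⟩
  have h1 : p + 1 ≤ p * u + 1 := by nlinarith
  have h2 : u * p + 1 ≤ h * u * p + h := by nlinarith [Nat.mul_le_mul_right (u * p + 1) hh]
  have h3 : 2 * (r * (u + 1)) ≤ (p + 2) * (u + 1) := by nlinarith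
  nlinarith

variable {p e h r : ℤ}

/-- A factorisation `(1 + r p) e = (u p + 1) (t p + e)`. -/
theorem plus_case (hp : p = h * e + 1) (hh : 0 < h) (he : 0 < e) {u t : ℤ} (hu : 0 ≤ u) (ht : 0 ≤ t)
    (heq : (u * p + 1) * (t * p + e) = (1 + r * p) * e) :
    u = 0 ∨ t = 0 ∨ ∃ m, 0 < m ∧ r * (u + 1) = m * u * p + u ^ 2 + u + m := by
  rcases hu.lt_or_eq with hu | hu
  swap
  · exact Or.inl hu.symm
  rcases ht.lt_or_eq with ht | ht
  swap
  · exact Or.inr (Or.inl ht.symm)
  have hp0 : p ≠ 0 := by nlinarith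
  have hc : u * t * p + u * e + t = r * e :=
    mul_left_cancel₀ hp0 (by linear_combination heq)
  obtain ⟨m, hm⟩ : e ∣ t * (u + 1) := ⟨r - u - h * u * t, by
    linear_combination hc - u * t * hp⟩
  refine Or.inr (Or.inr ⟨m, ?_, mul_left_cancel₀ he.ne' ?_⟩)
  · have h1 : 0 < e * m := hm ▸ mul_pos ht (by linarith)
    exact pos_of_mul_pos_right h1 he.le
  · linear_combination (u + 1) * (-hc) + (u * p + 1) * hm

/-- A factorisation `(1 + r p) e = (u p - 1) (t p - e)`. -/
theorem minus_case (hp : p = h * e + 1) (hh : 0 < h) (he : 0 < e) {u t : ℤ} (hu : 0 < u) (ht : 0 < t)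
    (heq : (u * p - 1) * (t * p - e) = (1 + r * p) * e) :
    (u = 1 ∧ r + 1 = t * h) ∨ (∃ m v, 0 < m ∧ 0 < v ∧ r * (v + 1) = m * v * p + v ^ 2 + v + m) ∨
      t * p - e = 1 := by
  have hp0 : p ≠ 0 := by nlinarith
  have hc : u * t * p - u * e - t = r * e :=
    mul_left_cancel₀ hp0 (by linear_combination heq)
  by_cases hu1 : u = 1
  · subst hu1
    exact Or.inl ⟨rfl, mul_left_cancel₀ he.ne' (by linear_combination -hc + t * hp)⟩
  by_cases hth : t * h = 1
  · refine Or.inr (Or.inr ?_)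
    have ht1 : t = 1 := by
      rcases Int.mul_eq_one_iff_eq_one_or_neg_one.1 hth with ⟨a, -⟩ | ⟨a, -⟩ <;> omega
    subst ht1
    linear_combination hp + e * hth
  obtain ⟨m, hm⟩ : e ∣ t * (u - 1) := ⟨r + u - h * u * t, by linear_combination hc - u * t * hp⟩
  have hm0 : 0 < m := by
    have h1 : 0 < e * m := hm ▸ mul_pos ht (by omega)
    exact pos_of_mul_pos_right h1 he.le
  refine Or.inr (Or.inl ⟨m, t * h - 1, hm0, ?_, mul_left_cancel₀ he.ne' ?_⟩)
  · have := mul_pos ht hh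
    omega
  · linear_combination (-(t * h)) * hc + ((t * h - 1) * p + 1) * hm + t * (t * h + u - 1) * hp

end Cfsg.Agent.PrimeBlock.Brauer
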