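import Cfsg.Agent.Lib.PrimeBlock.Brauer.Main

/-!
# A prime whose cube exceeds the order of a simple group
-/

set_option linter.style.haveILetI false
set_option linter.unusedSectionVars false

namespace Cfsg.Agent.PrimeBlock.Brauer

open Cfsg.Agent.Characters Cfsg.Agent.Blocks Subgroup
open Cfsg.Agent.SmallSimple

universe u

variable {G : Type u} [Group G] [Finite G] [IsSimpleGroup G] {p : ℕ} [Fact p.Prime]

/-- The numerical contradiction. -/
theorem no_numbers {p r k e u t a b : ℤ} (hr : 1 ≤ r) (hk : 2 ≤ k) (he : 2 ≤ e) (hlt : r * e * k < p)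
    (hu : 2 ≤ u) (ht : 1 ≤ t) (hh : e ∣ p - 1) (ha : 0 ≤ a) (hb : 0 ≤ b) (hab : a + b + 1 = e)
    (h1 : u * (p - e * k) = r * e * k + 1) (h2 : t * (p - k) = e * (r * k + 1))
    (hrel : -(t * p - e) = 1 + a * (1 + r * p) - b * (u * p - 1)) : False := by
  have hek : e * k ≤ r * (e * k) := le_mul_of_one_le_left (mul_nonneg (by linarith) (by linarith)) hr
  have hek2 : 2 * k ≤ e * k := mul_le_mul_of_nonneg_right he (by linarith)
  have hek3 : e * 2 ≤ e * k := mul_le_mul_of_nonneg_left hk (by linarith)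
  have hpk : 0 ≤ p - k := by nlinarith
  rcases lt_trichotomy t 2 with ht2 | ht2 | ht2
  · obtain rfl : t = 1 := by omega
    have hp : p = k + e * (r * k + 1) := by linarith
    rcases lt_or_ge r 2 with hr2 | hr2
    · obtain rfl : r = 1 := by omega
      have hd : e ∣ k - 1 := by
        have : k - 1 = (p - 1) - e * (k + 1) := by rw [hp]; ring
        rw [this]
        exact dvd_sub hh (dvd_mul_right _ _)
      have he1 : e + 1 ∣ k - 1 := by
        have hu' : u * (k + e) = e * k + 1 := by rw [hp] at h1; linear_combination h1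
        have hkey : (k + e) * (1 + k * (e + 1)) =
            (e + 1) * (k + 1) * (b * e * k - a * (k + e)) := by
          rw [hp] at hrel
          linear_combination (k + e) * (-hrel) + b * (k + (e * (1 * k + 1))) * hu' - b * 0
        refine ⟨(k + 1) * (b * e * k - a * (k + e)) - 1 - (k + e) * k, ?_⟩
        linear_combination hkey
      have hcop : IsCoprime e (e + 1) := ⟨-1, 1, by ring⟩
      have hle := Int.le_of_dvd (by omega) (hcop.mul_dvd hd he1)
      have hkd : k + e ∣ e * e - 1 := by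
        refine ⟨e - u, ?_⟩
        rw [hp] at h1
        linear_combination h1
      have hle2 := Int.le_of_dvd (by nlinarith) hkd
      nlinarith
    · nlinarith [mul_le_mul_of_nonneg_right hu (show (0 : ℤ) ≤ p - e * k by nlinarith),
        mul_nonneg (show (0 : ℤ) ≤ r - 2 by linarith) (show (0 : ℤ) ≤ e * k by nlinarith)]
  · subst ht2
    have he2 : e = 2 := by
      by_contra hne
      nlinarith [mul_pos (show (0 : ℤ) < e - 2 by omega) (show (0 : ℤ) < k - 1 by omega)]
    subst he2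
    have hr1 : r = 1 := by
      by_contra hne
      nlinarith [mul_nonneg (show (0 : ℤ) ≤ r - 2 by omega) (show (0 : ℤ) ≤ k by omega)]
    subst hr1
    have hp : p = 2 * k + 1 := by linarith
    subst hp
    have hu' : u = 2 * k + 1 := by linarith
    subst hu'
    rcases (show a = 0 ∧ b = 1 ∨ a = 1 ∧ b = 0 by omega) with ⟨rfl, rfl⟩ | ⟨rfl, rfl⟩ <;> nlinarith
  · nlinarith [mul_le_mul_of_nonneg_right (show (3 : ℤ) ≤ t by omega) hpk]

set_option maxHeartbeats 2000000 in
theorem centralizer_of_cube (hG : ¬ IsMulCommutative G) (P : Sylow p G)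
    (hP : Nat.card (P : Subgroup G) = p) (hbig : Nat.card G < p ^ 3) :
    Nat.card (centralizer ((P : Subgroup G) : Set G)) = p := by
  classical
  have hp : p.Prime := Fact.out
  by_contra hCne
  obtain ⟨e, hed, he1, hNe, hCd⟩ := Centralize.centralizer_data hG P hP
  have hp2 : p ≠ 2 := by
    rintro rfl
    have := Nat.le_of_dvd (by norm_num) hed
    omega
  obtain ⟨D, ht, hts⟩ := exists_pblock' hG hp2 P hP
  have heD : D.e = e := by
    have := relIndex_mul_relIndex ⊥ (centralizer ((P : Subgroup G) : Set G))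
      (normalizer ((P : Subgroup G) : Set G)) bot_le (centralizer_le_normalizer _)
    rw [relIndex_bot_left, relIndex_bot_left, D.he, hNe] at this
    exact Nat.eq_of_mul_eq_mul_left Nat.card_pos this
  subst heD
  obtain ⟨k, hk⟩ := hCd
  have hk2 : 2 ≤ k := by
    rcases Nat.lt_or_ge k 2 with hlt | hge
    · exfalso
      interval_cases k
      · have := Nat.card_pos (α := centralizer ((P : Subgroup G) : Set G))
        omega
      · exact hCne (by rw [hk, mul_one])
    · exact hge
  obtain ⟨r, hn⟩ : ∃ r, Nat.card (Sylow p G) = 1 + r * p := by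
    obtain ⟨c, hc⟩ := (Nat.modEq_iff_dvd' Nat.card_pos).1 (card_sylow_modEq_one p G).symm
    exact ⟨c, by have := Nat.card_pos (α := Sylow p G); rw [mul_comm c p]; omega⟩
  have hr : 1 ≤ r := Nat.pos_of_ne_zero fun e0 => by
    have := Basic.one_lt_card_sylow (p := p) hG (prime_dvd_card D)
    rw [hn, e0] at this
    omega
  have hcard : Nat.card G = p * (D.e * k * (1 + r * p)) := by
    rw [← Basic.card_normalizer_mul P, hn, hNe, hk]; ring
  have hM : D.e * k * (1 + r * p) < p * p := by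
    rw [hcard, pow_succ, pow_two, mul_comm (p * p) p] at hbig
    exact Nat.lt_of_mul_lt_mul_left hbig
  have hlt : r * D.e * k < p := by
    by_contra hge
    push Not at hge
    have := Nat.mul_le_mul_right p hge
    nlinarith
  have hekp : D.e * k < p := lt_of_le_of_lt (by
    rw [mul_assoc]; exact Nat.le_mul_of_pos_left _ hr) hlt
  have hMZ : ((D.e : ℤ) * k * (1 + r * p)) < p * p := by exact_mod_cast hM
  have hpZ : (0 : ℤ) < p := by exact_mod_cast hp.pos
  have hpp : Prime (p : ℤ) := Nat.prime_iff_prime_int.1 hp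
  have hep : ¬ (p : ℤ) ∣ D.e := fun h => by
    have := Nat.le_of_dvd D.e_pos (Int.natCast_dvd_natCast.1 h)
    have := D.e_lt
    omega
  -- the members of the block are large
  have hlarge : ∀ χ ∈ Cfsg.principalBlock D.M G, χ ≠ trivIrr G → (p : ℤ) ≤ deg χ := fun χ hχ hne => by
    by_contra hlt'
    exact hCne (D.card_centralizer hG hχ hne (by omega))
  have hcof : ∀ χ ∈ Cfsg.principalBlock D.M G, χ ≠ trivIrr G → ∀ c : ℤ, ¬ (p : ℤ) ∣ c →
      (p : ℤ) ∣ c - deg χ → ∃ v : ℤ, 0 < v ∧ v < p ∧ (deg χ : ℤ) * v = (1 + r * p) * (D.e * k) ∧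
        (p : ℤ) ∣ D.e * k - c * v := by
    intro χ hχ hne c hc hd
    have hnd : ¬ p ∣ deg χ := fun h => hc (by
      have := hd.add (Int.natCast_dvd_natCast.2 h); simpa using this)
    obtain ⟨v, hv⟩ := (((Nat.Prime.coprime_iff_not_dvd hp).2 hnd).symm).dvd_of_dvd_mul_left
      (hcard ▸ char_degree_dvd_card χ)
    have hv' : (deg χ : ℤ) * v = (1 + r * p) * (D.e * k) := by
      have : ((D.e * k * (1 + r * p) : ℕ) : ℤ) = ((deg χ * v : ℕ) : ℤ) := by rw [hv]
      push_cast at this; linear_combination -this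
    obtain ⟨j, hj⟩ := hd
    have hv0 : (0 : ℤ) < v := Int.natCast_pos.2 (Nat.pos_of_ne_zero fun e0 => by
      rw [e0, mul_zero] at hv
      have := Nat.mul_pos (Nat.mul_pos D.e_pos (show 0 < k by omega)) (show 0 < 1 + r * p by omega)
      omega)
    refine ⟨v, hv0, ?_, hv', ⟨-(r : ℤ) * D.e * k - j * v, by linear_combination -hv' - (v : ℤ) * hj⟩⟩
    by_contra hge
    push Not at hge
    have := mul_le_mul (hlarge χ hχ hne) hge hpZ.le (Int.natCast_nonneg _)
    linarith
  have small : ∀ w : ℤ, -p < p * w → p * w < p → w = 0 := fun w h1 h2 => by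
    rcases lt_trichotomy w 0 with hw | hw | hw
    · nlinarith [mul_le_mul_of_nonneg_left (show w ≤ -1 by omega) hpZ.le]
    · exact hw
    · nlinarith [mul_le_mul_of_nonneg_left (show (1 : ℤ) ≤ w by omega) hpZ.le]
  have hekZ : (0 : ℤ) < D.e * k := mul_pos (by exact_mod_cast D.e_pos) (by omega)
  have hekpZ : (D.e : ℤ) * k < p := by exact_mod_cast hekp
  have hp1 : ¬ (p : ℤ) ∣ 1 := fun h => hp.ne_one (Nat.dvd_one.1 (Int.natCast_dvd_natCast.1 (by simpa using h)))
  -- the degrees in `X`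
  have hX : ∀ χ ∈ D.X.erase (trivIrr G), (D.sgn χ = 1 ∧ (deg χ : ℤ) = 1 + r * p) ∨
      (D.sgn χ = -1 ∧ (deg χ : ℤ) * (p - D.e * k) = (1 + r * p) * (D.e * k)) := by
    intro χ hχ
    obtain ⟨hne, hχX⟩ := Finset.mem_erase.1 hχ
    obtain ⟨u, hu⟩ : (p : ℤ) ∣ (deg χ : ℤ) - D.sgn χ := Int.ModEq.dvd (D.deg_X χ hχX).symm
    rcases D.sgn_eq χ hχX with hs | hs <;> rw [hs] at hu
    · obtain ⟨v, hv0, hvp, hv, w, hw⟩ := hcof χ ((D.mem_block χ).2 (Or.inl hχX)) hne 1 hp1
        ⟨-u, by linear_combination -hu⟩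
      have hw0 : w = 0 := small w (by linarith) (by linarith)
      subst hw0
      refine Or.inl ⟨hs, mul_right_cancel₀ hekZ.ne' ?_⟩
      linear_combination hv + (deg χ : ℤ) * hw
    · obtain ⟨v, hv0, hvp, hv, w, hw⟩ := hcof χ ((D.mem_block χ).2 (Or.inl hχX)) hne (-1)
        (by rwa [dvd_neg]) ⟨-u, by linear_combination -hu⟩
      have hw1 : w - 1 = 0 := small (w - 1) (by linarith) (by linarith)
      have hw' : w = 1 := by linarith
      subst hw'
      exact Or.inr ⟨hs, by linear_combination hv - (deg χ : ℤ) * hw⟩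
  obtain ⟨θ, hθ⟩ := D.Y_nonempty
  have hθne : θ ≠ trivIrr G := fun h => Finset.disjoint_left.1 D.disj ht (h ▸ hθ)
  obtain ⟨s, hs⟩ : (p : ℤ) ∣ (deg θ : ℤ) - D.ε * D.e := Int.ModEq.dvd (D.deg_Y θ hθ).symm
  obtain ⟨v, hv0, hvp, hv, w, hw⟩ := hcof θ ((D.mem_block θ).2 (Or.inr hθ)) hθne (D.ε * D.e)
    (by rcases D.ε_eq with h | h <;> rw [h] <;> simpa using hep) ⟨-s, by linear_combination -hs⟩
  obtain ⟨j, hj⟩ : (p : ℤ) ∣ k - D.ε * v :=
    (hpp.dvd_or_dvd ⟨w, by linear_combination hw⟩).resolve_left hep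
  have hkp : (k : ℤ) < p := by
    have := D.e_pos
    exact_mod_cast lt_of_le_of_lt (Nat.le_mul_of_pos_left k this) hekp
  -- the relation
  set A := (D.X.erase (trivIrr G)).filter fun χ => D.sgn χ = 1 with hA
  set B := (D.X.erase (trivIrr G)).filter fun χ => ¬ D.sgn χ = 1 with hB
  have hcnt : A.card + B.card + 1 = D.e := by
    rw [hA, hB, Finset.card_filter_add_card_filter_not, Finset.card_erase_of_mem ht, D.card_X]
    have := D.e_pos
    omega
  have hAd : ∀ χ ∈ A, D.sgn χ = 1 ∧ (deg χ : ℤ) = 1 + r * p := fun χ hχ => by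
    obtain ⟨hm, hs'⟩ := Finset.mem_filter.1 hχ
    exact ⟨hs', ((hX χ hm).resolve_right fun h => by rw [h.1] at hs'; omega).2⟩
  have hBd : ∀ χ ∈ B, D.sgn χ = -1 ∧ (deg χ : ℤ) * (p - D.e * k) = (1 + r * p) * (D.e * k) :=
    fun χ hχ => by
      obtain ⟨hm, hs'⟩ := Finset.mem_filter.1 hχ
      exact (hX χ hm).resolve_left fun h => hs' h.1
  have hrel : D.ε * (deg θ : ℤ) = 1 + A.card * (1 + r * p : ℤ) - ∑ χ ∈ B, (deg χ : ℤ) := by
    rw [D.rel_one hθ, ← Finset.add_sum_erase _ _ ht, hts, deg_trivIrr,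
      ← Finset.sum_filter_add_sum_filter_not (D.X.erase (trivIrr G)) fun χ => D.sgn χ = 1, ← hA, ← hB,
      Finset.sum_congr rfl fun χ hχ => by rw [(hAd χ hχ).1, (hAd χ hχ).2],
      Finset.sum_congr (s₁ := B) rfl fun χ hχ => by rw [(hBd χ hχ).1]]
    simp only [Finset.sum_const, nsmul_eq_mul, neg_mul, one_mul, Finset.sum_neg_distrib]
    push_cast
    ring
  have hnpos : (0 : ℤ) < 1 + r * p := by positivity
  rcases D.ε_eq with hε | hε <;> rw [hε] at hs hw hj hrel
  · have hj0 : j = 0 := small j (by linarith) (by linarith)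
    subst hj0
    have hdeg : (deg θ : ℤ) = (1 + r * p) * D.e := by
      refine mul_right_cancel₀ (show (k : ℤ) ≠ 0 by omega) ?_
      linear_combination hv + (deg θ : ℤ) * hj
    have h0 : 0 ≤ ∑ χ ∈ B, (deg χ : ℤ) := Finset.sum_nonneg fun χ _ => Int.natCast_nonneg _
    have h1 : (A.card : ℤ) + 1 ≤ D.e := by exact_mod_cast (show A.card + 1 ≤ D.e by omega)
    have h2 := mul_le_mul_of_nonneg_left h1 hnpos.le
    have h3 : (1 : ℤ) * p ≤ r * p := mul_le_mul_of_nonneg_right (by exact_mod_cast hr) hpZ.le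
    linarith
  · have hj1 : j - 1 = 0 := small (j - 1) (by linarith) (by linarith)
    have hj' : j = 1 := by linarith
    subst hj'
    obtain ⟨χ₀, hχ₀⟩ : B.Nonempty := by
      rw [Finset.nonempty_iff_ne_empty]
      intro hem
      rw [hem, Finset.sum_empty] at hrel
      have : (0 : ℤ) ≤ A.card * (1 + r * p : ℤ) := by positivity
      have : (p : ℤ) ≤ deg θ := hlarge θ ((D.mem_block θ).2 (Or.inr hθ)) hθne
      linarith
    obtain ⟨hs0, hd0⟩ := hBd χ₀ hχ₀
    have hm0 := Finset.mem_erase.1 (Finset.mem_filter.1 hχ₀).1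
    obtain ⟨u, hu⟩ : (p : ℤ) ∣ (deg χ₀ : ℤ) - D.sgn χ₀ := Int.ModEq.dvd (D.deg_X χ₀ hm0.2).symm
    rw [hs0] at hu
    have hsame : ∀ χ ∈ B, (deg χ : ℤ) = deg χ₀ := fun χ hχ =>
      mul_right_cancel₀ (by linarith : (p : ℤ) - D.e * k ≠ 0) ((hBd χ hχ).2.trans hd0.symm)
    rw [Finset.sum_congr rfl hsame, Finset.sum_const, nsmul_eq_mul] at hrel
    have hu2 : 2 ≤ u := by
      have := hlarge χ₀ ((D.mem_block χ₀).2 (Or.inl hm0.2)) hm0.1
      by_contra hlt'
      have := mul_le_mul_of_nonneg_left (show u ≤ 1 by omega) hpZ.le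
      linarith
    have hs1 : 1 ≤ s := by
      have := hlarge θ ((D.mem_block θ).2 (Or.inr hθ)) hθne
      by_contra hlt'
      have := mul_le_mul_of_nonneg_left (show s ≤ 0 by omega) hpZ.le
      have : (0 : ℤ) ≤ D.e := Int.natCast_nonneg _
      nlinarith
    refine no_numbers (p := p) (r := r) (k := k) (e := D.e) (u := u) (t := s) (a := A.card) (b := B.card)
      (by exact_mod_cast hr) (by exact_mod_cast hk2) (by exact_mod_cast he1) (by exact_mod_cast hlt) hu2 hs1
      ?_ (Int.natCast_nonneg _) (Int.natCast_nonneg _) (by exact_mod_cast hcnt) ?_ ?_ ?_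
    · have := Int.natCast_dvd_natCast.2 hed
      rwa [Nat.cast_sub hp.one_le, Nat.cast_one] at this
    · refine mul_left_cancel₀ hpZ.ne' ?_
      linear_combination hd0 - (p - (D.e : ℤ) * k) * hu
    · refine mul_left_cancel₀ hpZ.ne' ?_
      linear_combination hv - v * hs - (p * s - D.e) * hj
    · linear_combination hrel + hs + (B.card : ℤ) * (-hu)

/-- A simple group with a prime `p` with `p³` above the order. -/
theorem brauer_cube (hG : ¬ IsMulCommutative G) (hdvd : p ∣ Nat.card G) (hbig : Nat.card G < p ^ 3) :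
    (∃ (F : Type) (_ : Field F) (_ : Fintype F), Fintype.card F = p ∧ 3 < p ∧
      Nonempty (G ≃* Matrix.ProjectiveSpecialLinearGroup (Fin 2) F)) ∨
    (∃ (m : ℕ) (F : Type) (_ : Field F) (_ : Fintype F), Fintype.card F = 2 ^ m ∧ p = 2 ^ m + 1 ∧ 3 < p ∧
      Nonempty (G ≃* Matrix.ProjectiveSpecialLinearGroup (Fin 2) F)) := by
  classical
  have hp : p.Prime := Fact.out
  obtain ⟨P⟩ : Nonempty (Sylow p G) := inferInstance
  obtain ⟨r, hn⟩ : ∃ r, Nat.card (Sylow p G) = 1 + r * p := by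
    obtain ⟨c, hc⟩ := (Nat.modEq_iff_dvd' Nat.card_pos).1 (card_sylow_modEq_one p G).symm
    exact ⟨c, by have := Nat.card_pos (α := Sylow p G); rw [mul_comm c p]; omega⟩
  have hr : 1 ≤ r := Nat.pos_of_ne_zero fun e0 => by
    have := Basic.one_lt_card_sylow (p := p) hG hdvd
    rw [hn, e0] at this
    omega
  have hP : Nat.card (P : Subgroup G) = p := by
    rw [Basic.card_sylow_eq]
    have hpos := hp.factorization_pos_of_dvd Nat.card_pos.ne' hdvd
    suffices (Nat.card G).factorization p ≤ 1 by rw [show (Nat.card G).factorization p = 1 by omega, pow_one]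
    by_contra hgt
    have h2 : p ^ 2 ∣ Nat.card (P : Subgroup G) := by
      rw [Basic.card_sylow_eq]; exact pow_dvd_pow p (by omega)
    have h4 : p ^ 2 * p ≤ p ^ 2 * (1 + r * p) := Nat.mul_le_mul_left _ (by nlinarith)
    have h5 : p ^ 2 * (1 + r * p) ≤ Nat.card (normalizer ((P : Subgroup G) : Set G)) * (1 + r * p) :=
      Nat.mul_le_mul_right _ (Nat.le_of_dvd Nat.card_pos
        (h2.trans (card_dvd_of_le (le_normalizer (H := (P : Subgroup G))))))
    have h6 := Basic.card_normalizer_mul P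
    rw [hn] at h6
    rw [pow_succ] at hbig
    linarith
  have hC := centralizer_of_cube hG P hP hbig
  refine brauer hG P hP hC hn (not_third ?_)
  obtain ⟨e, -, he1, hNe, -⟩ := Centralize.centralizer_data hG P hP
  have h6 := Basic.card_normalizer_mul P
  rw [hNe, hC, hn] at h6
  rw [← h6] at hbig
  have hlt : e * (1 + r * p) < p * p := by
    by_contra hge
    push Not at hge
    have := Nat.mul_le_mul_left p hge
    nlinarith
  have h7 : 2 * (1 + r * p) ≤ e * (1 + r * p) := Nat.mul_le_mul_right _ he1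
  have h8 : 2 * r * p < p * p := by linarith
  have := Nat.lt_of_mul_lt_mul_right h8
  omega

end Cfsg.Agent.PrimeBlock.Brauer
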