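import Cfsg.Agent.Lib.Characters.Kernel
import Cfsg.Agent.Lib.Characters.Schur
import Cfsg.Agent.Lib.Characters.Inner
import Cfsg.Agent.Lib.Blocks.Defect

/-!
# The character afforded by the fixed points of a subgroup, and multiplicities
-/

set_option linter.style.haveILetI false
set_option linter.unusedSectionVars false

namespace Cfsg.Agent.PrimeBlock.Brauer

open Cfsg.Agent.Characters Cfsg.Agent.Blocks Subgroup
open scoped ComplexConjugate

universe u

variable {G : Type u} [Group G] [Finite G]

/-- Averaging a character over a subgroup normalized by `E` gives a character of `E`. -/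
theorem isCharacter_average {χ : G → ℂ} (hχ : Cfsg.IsCharacter G χ) (P E : Subgroup G) [Fintype P]
    (hEP : E ≤ normalizer (P : Set G)) :
    Cfsg.IsCharacter E fun s => (Nat.card P : ℂ)⁻¹ * ∑ y : P, χ ((s : G) * y) := by
  classical
  obtain ⟨n, ρ, rfl⟩ := hχ
  let U : Submodule ℂ (Fin n → ℂ) := Representation.invariants (ρ.comp P.subtype)
  have hU : ∀ v, v ∈ U ↔ ∀ y : P, ρ (y : G) v = v := fun v => Iff.rfl
  let ρE : Representation ℂ E (Fin n → ℂ) := ρ.comp E.subtype
  have hinv : IsInvariantUnder ρE U := by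
    intro s v hv
    rw [hU] at hv ⊢
    intro y
    have hy : (s : G)⁻¹ * y * (s : G) ∈ P := (mem_normalizer_iff''.1 (hEP s.2) y).1 y.2
    show ρ (y : G) (ρ (s : G) v) = ρ (s : G) v
    rw [← Module.End.mul_apply, ← map_mul,
      show (y : G) * (s : G) = (s : G) * ((s : G)⁻¹ * y * (s : G)) by group, map_mul,
      Module.End.mul_apply]
    exact congrArg _ (hv ⟨_, hy⟩)
  have hc : (Nat.card P : ℂ) ≠ 0 := Nat.cast_ne_zero.2 Nat.card_pos.ne'
  have key : ∀ s : E, (subRep ρE U hinv).character s =
      (Nat.card P : ℂ)⁻¹ * ∑ y : P, ρ.character ((s : G) * y) := by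
    intro s
    let f : (Fin n → ℂ) →ₗ[ℂ] (Fin n → ℂ) :=
      ρ (s : G) * ((Nat.card P : ℂ)⁻¹ • ∑ y : P, ρ (y : G))
    have hfix : ∀ v ∈ U, f v = ρ (s : G) v := fun v hv => by
      simp only [f, Module.End.mul_apply, LinearMap.smul_apply, LinearMap.sum_apply,
        fun y : P => (hU v).1 hv y, Finset.sum_const, Finset.card_univ]
      rw [← Nat.cast_smul_eq_nsmul ℂ, smul_smul, ← Nat.card_eq_fintype_card, inv_mul_cancel₀ hc,
        one_smul]
    have hrange : ∀ v, f v ∈ U := by
      intro v
      refine hinv s _ ((hU _).2 fun y => ?_)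
      simp only [LinearMap.smul_apply, LinearMap.sum_apply, map_smul, map_sum]
      congr 1
      exact Fintype.sum_equiv (Equiv.mulLeft y) _ _ fun z => by
        simp [← Module.End.mul_apply, ← map_mul]
    have htr := LinearMap.trace_restrict_eq_of_forall_mem U f hrange
    have heq : f.restrict (fun v _ => hrange v) = subRep ρE U hinv s := by
      refine LinearMap.ext fun v => Subtype.ext ?_
      rw [subRep_apply_coe]
      exact hfix v v.2
    rw [heq] at htr
    show LinearMap.trace ℂ _ (subRep ρE U hinv s) = _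
    rw [htr]
    simp only [f, mul_smul_comm, map_smul, Finset.mul_sum, map_sum, smul_eq_mul, ← map_mul]
    rfl
  obtain h := isCharacter_character (subRep ρE U hinv)
  rwa [show (subRep ρE U hinv).character = _ from funext key] at h

/-- The multiplicities of a character, with the multiplicity of the trivial character. -/
theorem exists_mult [Fintype G] [Fintype (Cfsg.IrrCharacter G)] {χ : G → ℂ} (h : Cfsg.IsCharacter G χ) :
    ∃ n : Cfsg.IrrCharacter G → ℕ, χ = ∑ ψ : Cfsg.IrrCharacter G, (n ψ : ℂ) • (ψ : G → ℂ) ∧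
      ∀ ψ : Cfsg.IrrCharacter G, Cfsg.classInner χ (ψ : G → ℂ) = (n ψ : ℂ) := by
  classical
  obtain ⟨n, hn⟩ := char_eq_sum_nat h
  refine ⟨n, hn, fun ψ => ?_⟩
  have := classInner_sum_smul_irr (c := fun φ : Cfsg.IrrCharacter G => (n φ : ℂ)) Finset.univ ψ
  rw [← hn, if_pos (Finset.mem_univ _)] at this
  exact this

/-- A character with all of its degree on the trivial character is constant. -/
theorem eq_const_of_classInner_one [Fintype G] {χ : G → ℂ} (h : Cfsg.IsCharacter G χ) {d : ℕ}
    (h1 : χ 1 = (d : ℂ)) (hd : Cfsg.classInner χ (fun _ => 1) = (d : ℂ)) (g : G) : χ g = (d : ℂ) := by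
  classical
  haveI := Fintype.ofFinite (Cfsg.IrrCharacter G)
  obtain ⟨n, hn, hinner⟩ := exists_mult h
  have hval : ∀ g, χ g = ∑ ψ : Cfsg.IrrCharacter G, (n ψ : ℂ) * (ψ : G → ℂ) g := fun g => by
    have := congrFun hn g
    simpa [Finset.sum_apply, smul_eq_mul] using this
  have hnt : n (trivIrr G) = d := by
    have := hinner (trivIrr G)
    rw [show ((trivIrr G : Cfsg.IrrCharacter G) : G → ℂ) = fun _ => 1 from rfl, hd] at this
    exact_mod_cast this.symm
  have h0 : ∑ ψ ∈ Finset.univ.erase (trivIrr G), (n ψ) * Cfsg.charDegree (ψ : G → ℂ) = 0 := by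
    have := hval 1
    rw [h1, ← Finset.add_sum_erase _ _ (Finset.mem_univ (trivIrr G)), hnt] at this
    simp only [trivIrr_coe, mul_one] at this
    have h2 : ((∑ ψ ∈ Finset.univ.erase (trivIrr G), (n ψ) * Cfsg.charDegree (ψ : G → ℂ) : ℕ) : ℂ) = 0 := by
      push_cast
      simp only [charDegree_cast]
      linear_combination -this
    exact_mod_cast h2
  rw [hval g, ← Finset.add_sum_erase _ _ (Finset.mem_univ (trivIrr G)), hnt,
    Finset.sum_eq_zero fun ψ hψ => ?_, add_zero]
  · simp
  · have := (Finset.sum_eq_zero_iff.1 h0 ψ hψ)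
    rcases Nat.mul_eq_zero.1 this with e | e
    · simp [e]
    · exact absurd e (charDegree_pos ψ).ne'

end Cfsg.Agent.PrimeBlock.Brauer
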