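import Cfsg.Agent.Lib.PrimeBlock.Brauer.Small

/-!
# Exceptional characters of degree `F = t p - e`
-/

set_option linter.style.haveILetI false
set_option linter.unusedSectionVars false

namespace Cfsg.Agent.PrimeBlock.Brauer

open Cfsg.Agent.Characters Cfsg.Agent.Blocks Subgroup
open Cfsg.Agent.SmallSimple
open scoped ComplexConjugate

universe u

variable {G : Type u} [Group G] [Finite G] [IsSimpleGroup G] {p : ℕ} [Fact p.Prime] {P : Sylow p G}
  {D : PBlock P} {r h : ℕ}

/-- The class of elements that are killed by the characters of degree `p - 1`. -/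
def Special (h e : ℕ) (g : G) : Prop := ∃ l : ℕ, l.Prime ∧ l ∣ orderOf g ∧ l ∣ h * e

theorem eq_tau {σ : G} {e : ℕ} (hσ : orderOf σ = 2 * e) {x : G} (hx : x ∈ zpowers σ)
    (hx2 : orderOf x = 2) : x = σ ^ e := by
  obtain ⟨k, rfl⟩ := mem_powers_iff_mem_zpowers.2 hx
  have hd : 2 * e ∣ k * 2 := by
    rw [← hσ, orderOf_dvd_iff_pow_eq_one, pow_mul]
    exact hx2 ▸ pow_orderOf_eq_one (σ ^ k)
  have h1 : ∀ c, σ ^ (2 * e * c) = 1 := fun c => by rw [pow_mul, ← hσ, pow_orderOf_eq_one, one_pow]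
  obtain ⟨c, hc⟩ : e ∣ k := Nat.dvd_of_mul_dvd_mul_left Nat.two_pos (by rwa [mul_comm k 2] at hd)
  rcases Nat.even_or_odd c with ⟨c', rfl⟩ | ⟨c', rfl⟩
  · exfalso
    simp only [hc, show e * (c' + c') = 2 * e * c' by ring, h1, orderOf_one] at hx2
    norm_num at hx2
  · simp only [hc, show e * (2 * c' + 1) = 2 * e * c' + e by ring, pow_add, h1, one_mul]

theorem exists_prime_order {g : G} {q : ℕ} (hd : q ∣ orderOf g) :
    orderOf (g ^ (orderOf g / q)) = q := orderOf_pow_orderOf_div (orderOf_pos g).ne' hd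

set_option maxHeartbeats 2000000 in
/-- The case of exceptional degree `t p - e`. -/
theorem Setup.large (S : Setup D r h) (hε : D.ε = -1) {t : ℕ} (hrt : r + 1 = t * h)
    (hf : ∀ θ ∈ D.Y, deg θ + D.e = t * p) :
    (r = 1 ∧ h = 2) ∨ (D.e = 2 ∧ r + 1 = h ∧ (∃ T : Sylow 2 G, ¬ IsCyclic (T : Subgroup G) ∧
      ¬ (T : Subgroup G).Normal ∧ Nat.card (T : Subgroup G) = p - 1) ∧
      (∃ v : ℕ, h = 2 ^ v) ∧
      ∀ x : G, orderOf x = 2 → IsMulCommutative (centralizer ({x} : Set G)) ∧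
        ∀ c ∈ centralizer ({x} : Set G), c ^ 2 = 1) := by
  classical
  haveI := Fintype.ofFinite G
  haveI := Fintype.ofFinite (Cfsg.IrrCharacter G)
  obtain ⟨θ₀, hθ₀⟩ := D.Y_nonempty
  have hp : p.Prime := Fact.out
  have hh := S.h_pos
  obtain ⟨a, ha⟩ : ∃ a, (plus D).card = a := ⟨_, rfl⟩
  obtain ⟨b, hb⟩ : ∃ b, (minus D).card = b := ⟨_, rfl⟩
  have hab : a + b + 1 = D.e := ha ▸ hb ▸ S.counts
  obtain ⟨F, hF⟩ : ∃ F, deg θ₀ = F := ⟨_, rfl⟩
  have hFe : F + D.e = t * p := hF ▸ hf θ₀ hθ₀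
  have hYF : ∀ θ ∈ D.Y, deg θ = F := fun θ hθ => (D.deg_Y_eq hθ hθ₀).trans hF
  have hpZ : (p : ℤ) = h * D.e + 1 := by exact_mod_cast S.hp
  have hrZ : (r : ℤ) + 1 = t * h := by exact_mod_cast hrt
  have habZ : (a : ℤ) + b + 1 = D.e := by exact_mod_cast hab
  have hFZ : (F : ℤ) + D.e = t * p := by exact_mod_cast hFe
  have hn : 1 + r * p = h * F := by
    zify
    linear_combination (-(h : ℤ)) * hFZ + (p : ℤ) * hrZ - hpZ
  have hnZ : (1 : ℤ) + r * p = h * F := by exact_mod_cast hn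
  have hrel1 : -(F : ℤ) = 1 + a * (h * F) - b * (h * D.e) := by
    have := S.rel hθ₀ (g := 1) (by simp [hp.ne_one])
    rw [Finset.sum_congr (s₁ := plus D) rfl fun χ hχ => by rw [← deg_cast, (S.mem_plus hχ).2.2.2, hn],
      Finset.sum_congr (s₁ := minus D) rfl fun χ hχ => by rw [← deg_cast, (S.mem_minus hχ).2.2.2],
      ← deg_cast, hF, hε, Finset.sum_const, Finset.sum_const, ha, hb] at this
    simp only [nsmul_eq_mul] at this
    push_cast at this
    have h2 : ((-(F : ℤ) : ℤ) : ℂ) = ((1 + a * (h * F) - b * (h * D.e) : ℤ) : ℂ) := by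
      push_cast; linear_combination this
    exact_mod_cast h2
  have het : D.e = t * (a * h + 1) + 1 := by
    have : ((t : ℤ) * (a * h + 1) - D.e + 1) * p = 0 := by
      linear_combination (-1 : ℤ) * hrel1 - ((a : ℤ) * h + 1) * hFZ - ((D.e : ℤ) - 1) * hpZ + (h : ℤ) * D.e * habZ
    have h1 := (mul_eq_zero.1 this).resolve_right (by exact_mod_cast hp.ne_zero)
    have h2 : (D.e : ℤ) = ((t * (a * h + 1) + 1 : ℕ) : ℤ) := by push_cast; linear_combination -h1
    exact_mod_cast h2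
  have hetZ : (D.e : ℤ) = t * (a * h + 1) + 1 := by exact_mod_cast het
  obtain ⟨hphe, hpn, hpe⟩ := S.not_dvd_p
  have hpF : ¬ p ∣ F := fun hd => hpn (hn ▸ hd.mul_left h)
  have hFco : ∀ l : ℕ, l.Prime → l ∣ F → ¬ l ∣ h * D.e := by
    intro l hl hlF hd
    rcases hl.dvd_mul.1 hd with h1 | h1
    · have : (l : ℤ) ∣ 1 := by
        have h2 : (1 : ℤ) = h * (t * D.e - t * a) - F := by
          linear_combination hFZ + (t : ℤ) * hpZ - hetZ
        rw [h2]
        exact dvd_sub ((Int.natCast_dvd_natCast.2 h1).mul_right _) (Int.natCast_dvd_natCast.2 hlF)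
      exact hl.ne_one (Nat.dvd_one.1 (by exact_mod_cast this))
    · rcases hl.dvd_mul.1 ((hFe ▸ Nat.dvd_add hlF h1 : l ∣ t * p)) with h2 | h2
      · exact hl.ne_one (Nat.dvd_one.1 ((Nat.dvd_add_right (h2.mul_right _)).1 (het ▸ h1)))
      · exact hpe (((Nat.prime_dvd_prime_iff_eq hl hp).1 h2) ▸ h1)
  have hG : Nat.card G = p * (h * D.e) * F := by
    rw [S.card_G, hn]; ring
  have hfA : ∀ l : ℕ, l.Prime → l ∣ h * D.e → l ^ (Nat.card G).factorization l ∣ h * D.e := by
    intro l hl hle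
    refine full_dvd hl (b := p * F) (by rw [hG]; ring) fun hd => ?_
    rcases hl.dvd_mul.1 hd with h1 | h1
    · exact hphe (((Nat.prime_dvd_prime_iff_eq hl hp).1 h1) ▸ hle)
    · exact hFco l hl h1 hle
  have hfF : ∀ q : ℕ, q.Prime → q ∣ F → q ^ (Nat.card G).factorization q ∣ F := by
    intro q hq hqF
    refine full_dvd hq (b := p * (h * D.e)) (by rw [hG]; ring) fun hd => ?_
    rcases hq.dvd_mul.1 hd with h1 | h1
    · exact hpF (((Nat.prime_dvd_prime_iff_eq hq hp).1 h1) ▸ hqF)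
    · exact hFco q hq hqF h1
  have hA0 : ∀ χ ∈ minus D, ∀ g : G, Special h D.e g → (χ : G → ℂ) g = 0 := by
    rintro χ hχ g ⟨l, hl, hld, hle⟩
    exact BlockCharsA.DefectZeroVanish.eq_zero_of_singular hl χ
      (by show _ ∣ deg χ; rw [(S.mem_minus hχ).2.2.2]; exact hfA l hl hle) hld
  -- the elements by kind
  have hA1 : ∀ g : G, g ≠ 1 → ¬ p ∣ orderOf g → ¬ Special h D.e g →
      ∑ χ ∈ minus D, (χ : G → ℂ) g = 1 := by
    intro g hg hpg hsp
    obtain ⟨q, hq, hqd⟩ := Nat.exists_prime_and_dvd (fun e => hg (orderOf_eq_one_iff.1 e))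
    have hqF : q ∣ F := by
      have h1 : q ∣ p * (h * D.e) * F := hG ▸ hqd.trans (orderOf_dvd_natCard g)
      rcases hq.dvd_mul.1 h1 with h2 | h2
      · rcases hq.dvd_mul.1 h2 with h3 | h3
        · exact absurd ((Nat.prime_dvd_prime_iff_eq hq hp).1 h3 ▸ hqd) hpg
        · exact absurd ⟨q, hq, hqd, h3⟩ hsp
      · exact h2
    have h3 := S.rel hθ₀ hpg
    rw [BlockCharsA.DefectZeroVanish.eq_zero_of_singular hq θ₀
        (by show _ ∣ deg θ₀; rw [hF]; exact hfF q hq hqF) hqd,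
      Finset.sum_eq_zero fun χ hχ => BlockCharsA.DefectZeroVanish.eq_zero_of_singular hq χ
        (by show _ ∣ deg χ; rw [(S.mem_plus hχ).2.2.2, hn]; exact (hfF q hq hqF).mul_left h) hqd] at h3
    linear_combination h3
  obtain ⟨U, hU⟩ : ∃ U, (Finset.univ.filter fun g : G => g ≠ 1 ∧ ¬ p ∣ orderOf g ∧ ¬ Special h D.e g).card = U :=
    ⟨_, rfl⟩
  obtain ⟨V, hV⟩ : ∃ V, (Finset.univ.filter fun g : G => g ≠ 1 ∧ ¬ p ∣ orderOf g ∧ Special h D.e g).card = V :=
    ⟨_, rfl⟩
  have hsing := card_singular D S.hC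
  rw [S.hn] at hsing
  have hUV : (1 : ℤ) + (1 + r * p) * (p - 1) + U + V = p * D.e * (1 + r * p) := by
    have h1 : ∀ g : G, (1 : ℕ) = (if g = 1 then 1 else 0) + (if p ∣ orderOf g then 1 else 0) +
        (if g ≠ 1 ∧ ¬ p ∣ orderOf g ∧ ¬ Special h D.e g then 1 else 0) +
        (if g ≠ 1 ∧ ¬ p ∣ orderOf g ∧ Special h D.e g then 1 else 0) := by
      intro g
      by_cases hg : g = 1
      · subst hg; simp [hp.ne_one]
      · by_cases hpg : p ∣ orderOf g <;> by_cases hsp : Special h D.e g <;> simp [hg, hpg, hsp]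
    have h2 : Fintype.card G = ∑ g : G, (1 : ℕ) := by simp
    rw [Finset.sum_congr rfl fun g _ => h1 g, Finset.sum_add_distrib, Finset.sum_add_distrib,
      Finset.sum_add_distrib, Finset.sum_boole, Finset.sum_boole, Finset.sum_boole, Finset.sum_boole,
      hsing, hU, hV, show (Finset.univ.filter fun g : G => g = 1) = {1} by ext; simp, Finset.card_singleton,
      ← Nat.card_eq_fintype_card, S.card_G] at h2
    have h3 : ((p * D.e * (1 + r * p) : ℕ) : ℤ) = ((1 + (1 + r * p) * (p - 1) + U + V : ℕ) : ℤ) := by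
      exact_mod_cast h2
    push_cast [Nat.cast_sub hp.one_le] at h3
    linear_combination -h3
  have hUb : (U : ℤ) = b * ((1 + r * p) * (p - 1)) - b * (h * D.e) := by
    have h1 : ∑ g : G, ∑ χ ∈ minus D, (χ : G → ℂ) g = 0 := by
      rw [Finset.sum_comm]
      refine Finset.sum_eq_zero fun χ hχ => ?_
      have h0 := classInner_isIrr_ne χ.2 (trivIrr G).2 (fun e => (S.mem_minus hχ).2.1 (Subtype.ext e))
      rw [classInner_def] at h0
      simpa [natCard_ne_zero] using h0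
    have h2 : ∀ g : G, ∑ χ ∈ minus D, (χ : G → ℂ) g =
        (if g = 1 then (b * (h * D.e) : ℂ) else 0) + (if p ∣ orderOf g then -(b : ℂ) else 0) +
        (if g ≠ 1 ∧ ¬ p ∣ orderOf g ∧ ¬ Special h D.e g then 1 else 0) := by
      intro g
      by_cases hg : g = 1
      · subst hg
        rw [Finset.sum_congr rfl fun χ hχ => by rw [← deg_cast, (S.mem_minus hχ).2.2.2],
          Finset.sum_const, hb]
        simp [hp.ne_one]
      by_cases hpg : p ∣ orderOf g
      · obtain ⟨-, x, hx, hx1, hc⟩ := singular D S.hC hpg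
        rw [Finset.sum_congr rfl fun χ hχ => by
          rw [← classFun_conj (irr_isClassFunction χ) hc, D.val_X' (S.mem_minus hχ).1 hx hx1,
            (S.mem_minus hχ).2.2.1], Finset.sum_const, hb]
        simp [hg, hpg]
      by_cases hsp : Special h D.e g
      · rw [Finset.sum_eq_zero fun χ hχ => hA0 χ hχ g hsp]
        simp [hg, hpg, hsp]
      · rw [hA1 g hg hpg hsp]
        simp [hg, hpg, hsp]
    rw [Finset.sum_congr rfl fun g _ => h2 g, Finset.sum_add_distrib, Finset.sum_add_distrib,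
      Finset.sum_ite_eq' Finset.univ (1 : G), if_pos (Finset.mem_univ _), ← Finset.sum_filter,
      Finset.sum_const, hsing, Finset.sum_boole, hU, nsmul_eq_mul] at h1
    push_cast [Nat.cast_sub hp.one_le] at h1
    have h3 : ((U : ℤ) : ℂ) = ((b * ((1 + r * p) * (p - 1)) - b * (h * D.e) : ℤ) : ℂ) := by
      push_cast; linear_combination h1
    exact_mod_cast h3
  have hVF : (V : ℤ) = p * F * (a * h + 1) := by
    linear_combination hUV - hUb +
      ((p : ℤ) * D.e - (p - 1) * (1 + b)) * hnZ +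
      (-((h : ℤ) * F * (1 + b)) + (h * F - (a * h + 1) * F)) * hpZ +
      (1 - (h : ℤ) * F) * hrel1 + (h : ℤ) * F * p * hetZ - (h : ℤ) * F * (a * h + 1) * hFZ
  -- the complement
  obtain ⟨σ, hσN, hσ⟩ := exists_complement D S.hC
  haveI := Fintype.ofFinite (zpowers σ)
  have hE : Nat.card (zpowers σ) = D.e := by rw [Nat.card_zpowers, hσ]
  have hspec : ∀ s : zpowers σ, s ≠ 1 → Special h D.e (s : G) := by
    intro s hs
    obtain ⟨l, hl, hld⟩ := Nat.exists_prime_and_dvd
      (fun e => hs (Subtype.ext (orderOf_eq_one_iff.1 e)) : orderOf (s : G) ≠ 1)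
    exact ⟨l, hl, hld, (hld.trans (orderOf_mem D hσ s).1).mul_left h⟩
  have hAs : ∀ χ ∈ minus D, ∀ s : zpowers σ, s ≠ 1 → (χ : G → ℂ) s = 0 :=
    fun χ hχ s hs => hA0 χ hχ s (hspec s hs)
  have hθs : ∀ s : zpowers σ, s ≠ 1 → (θ₀ : G → ℂ) s = -1 - ∑ χ ∈ plus D, (χ : G → ℂ) s := by
    intro s hs
    have h3 := S.rel hθ₀ (orderOf_mem D hσ s).2
    rw [hε, Finset.sum_eq_zero fun χ hχ => hAs χ hχ s hs] at h3
    push_cast at h3
    linear_combination -h3
  have hsame : ∀ θ ∈ D.Y, ∀ s : zpowers σ, (θ : G → ℂ) s = (θ₀ : G → ℂ) s :=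
    fun θ hθ s => D.same θ hθ θ₀ hθ₀ s (orderOf_mem D hσ s).2
  have hYc := S.card_Y
  -- fixed-point characters
  have hΦ : ∀ χ : Cfsg.IrrCharacter G, ∃ Φ : zpowers σ → ℂ, χ ∈ plus D →
      Cfsg.IsCharacter (zpowers σ) Φ ∧ (∀ s, s ≠ 1 → Φ s = (χ : G → ℂ) (s : G)) ∧
        Φ 1 = ((r + 1 : ℕ) : ℂ) := by
    intro χ
    by_cases hχ : χ ∈ plus D
    · obtain ⟨hX, -, hs, hd⟩ := S.mem_plus hχ
      obtain ⟨Φ, hΦ⟩ := exists_plus D S.hC hσN hσ (irr_isCharacter χ) (r := r) (by rw [← deg_cast, hd])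
        fun y hy hy1 => by rw [D.val_X' hX hy hy1, hs]; simp
      exact ⟨Φ, fun _ => hΦ⟩
    · exact ⟨0, fun h => absurd h hχ⟩
  choose Φ hΦ using hΦ
  obtain ⟨ΦY, hYchar, hYs, hY1⟩ := exists_plus D S.hC hσN hσ
    (χ := ∑ θ ∈ D.Y, (θ : G → ℂ)) (isCharacter_sum _ _ fun θ _ => irr_isCharacter θ) (r := r)
    (by rw [Finset.sum_apply, Finset.sum_congr rfl fun θ hθ => by rw [← deg_cast, hYF θ hθ],
          Finset.sum_const, hYc, hn, nsmul_eq_mul]; push_cast; ring)
    fun y hy hy1 => by rw [Finset.sum_apply, D.sum_Y hy hy1, hε]; simp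
  have hYval : ∀ s : zpowers σ, s ≠ 1 → ΦY s = (h : ℂ) * (θ₀ : G → ℂ) s := fun s hs => by
    rw [hYs s hs, Finset.sum_apply, Finset.sum_congr rfl fun θ hθ => hsame θ hθ s, Finset.sum_const, hYc,
      nsmul_eq_mul]
  haveI := Fintype.ofFinite (Cfsg.IrrCharacter (zpowers σ))
  have hnat : ∀ χ : Cfsg.IrrCharacter G, ∀ μ : Cfsg.IrrCharacter (zpowers σ), ∃ k : ℕ,
      χ ∈ plus D → Cfsg.classInner (Φ χ) (μ : zpowers σ → ℂ) = (k : ℂ) := by
    intro χ μ
    by_cases hχ : χ ∈ plus D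
    · obtain ⟨k, hk⟩ := classInner_char_nat (hΦ χ hχ).1 (irr_isCharacter μ)
      exact ⟨k, fun _ => hk⟩
    · exact ⟨0, fun h => absurd h hχ⟩
  choose k hk using hnat
  choose kY hkY using fun μ : Cfsg.IrrCharacter (zpowers σ) => classInner_char_nat hYchar (irr_isCharacter μ)
  have hmult : ∀ μ : Cfsg.IrrCharacter (zpowers σ),
      (if μ = trivIrr _ then h else 0) + (kY μ + h * ∑ χ ∈ plus D, k χ μ) = h := by
    intro μ
    have := mult_of_regular (σ := σ) (Finset.insertNone (plus D))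
      (fun i => i.elim (1 : ℂ) fun _ => (h : ℂ)) (fun i => i.elim ΦY Φ) (h : ℂ) (by
        rw [Finset.sum_insertNone, hE]
        simp only [Option.elim_none, Option.elim_some, one_mul, hY1]
        rw [Finset.sum_congr rfl fun χ hχ => by rw [(hΦ χ hχ).2.2], Finset.sum_const, ha, nsmul_eq_mul,
          hrt, het]
        push_cast; ring) (fun s hs => by
        rw [Finset.sum_insertNone]
        simp only [Option.elim_none, Option.elim_some, one_mul, hYval s hs, hθs s hs, ← Finset.mul_sum]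
        rw [Finset.sum_congr rfl fun χ hχ => (hΦ χ hχ).2.1 s hs]
        ring) μ
    rw [Finset.sum_insertNone] at this
    simp only [Option.elim_none, Option.elim_some, one_mul, hkY] at this
    rw [Finset.sum_congr rfl fun χ hχ => by rw [hk χ μ hχ]] at this
    apply Nat.cast_injective (R := ℂ)
    rw [← this]
    split_ifs with hμ
    · subst hμ
      rw [show ((trivIrr (zpowers σ) : Cfsg.IrrCharacter (zpowers σ)) : zpowers σ → ℂ) = fun _ => 1
        from rfl, classInner_isIrr_self isIrrCharacter_one]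
      push_cast
      rw [Finset.mul_sum]
      ring
    · rw [classInner_isIrr_ne isIrrCharacter_one μ.2 fun e => hμ (Subtype.ext (by rw [← e]; rfl))]
      push_cast
      rw [Finset.mul_sum]
      ring
  have htriv : kY (trivIrr _) = 0 ∧ ∀ χ ∈ plus D, k χ (trivIrr _) = 0 := by
    have := hmult (trivIrr _)
    rw [if_pos rfl] at this
    refine ⟨by omega, fun χ hχ => ?_⟩
    have h0 : h * ∑ χ ∈ plus D, k χ (trivIrr (zpowers σ)) = 0 := by omega
    exact Finset.sum_eq_zero_iff.1 ((Nat.mul_eq_zero.1 h0).resolve_left hh.ne') χ hχ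
  have hsum0 : ∀ Ψ : zpowers σ → ℂ, Cfsg.classInner Ψ
      ((trivIrr (zpowers σ) : Cfsg.IrrCharacter (zpowers σ)) : zpowers σ → ℂ) = 0 →
      ∑ s : zpowers σ, Ψ s = 0 := by
    intro Ψ hΨ
    rw [classInner_def] at hΨ
    simpa [natCard_ne_zero] using hΨ
  have hplusE : ∀ χ ∈ plus D, ∑ s : zpowers σ, (χ : G → ℂ) s = (r : ℂ) * ((p : ℂ) - 1) := by
    intro χ hχ
    rw [sum_erase_one (hΦ χ hχ).2.1, hsum0 _ (by rw [hk χ _ hχ, htriv.2 χ hχ, Nat.cast_zero]),
      (hΦ χ hχ).2.2, ← deg_cast, (S.mem_plus hχ).2.2.2]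
    push_cast; ring
  have hYE : ∑ θ ∈ D.Y, conj (∑ s : zpowers σ, (θ : G → ℂ) s) = (r : ℂ) * ((p : ℂ) - 1) := by
    rw [← map_sum, Finset.sum_comm,
      Finset.sum_congr (s₁ := (Finset.univ : Finset (zpowers σ))) rfl fun s _ => (Finset.sum_apply (s : G) D.Y
        fun θ : Cfsg.IrrCharacter G => (θ : G → ℂ)).symm,
      sum_erase_one hYs, hsum0 _ (by rw [hkY, htriv.1, Nat.cast_zero]), hY1, Finset.sum_apply,
      Finset.sum_congr rfl fun θ hθ => by rw [← deg_cast, hYF θ hθ], Finset.sum_const, hYc, nsmul_eq_mul]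
    have : (h : ℂ) * F = 1 + r * p := by exact_mod_cast hn.symm
    simp only [map_add, map_sub, map_mul, map_natCast, map_zero, Nat.cast_add, Nat.cast_one, map_one]
    linear_combination this
  have hsq := S.sum_outside_sq hYF (by
    rw [ha, hb, hYc, S.card_G]
    push_cast
    linear_combination ((p : ℤ) * D.e - a * ((1 + r * p) + h * F) - p) * hnZ - (h : ℤ) * D.e * hrel1 +
      hpZ - ((a : ℤ) * h + 1) * F * h * hFZ + (p : ℤ) * h * F * hetZ)
  obtain ⟨m, hm, hconst, hfib⟩ := S.torus hσN hσ hAs hplusE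
    (fun s hs => by
      rw [Finset.sum_congr rfl fun θ hθ => by rw [hYF θ hθ, hsame θ hθ s], Finset.sum_const, hYc,
        nsmul_eq_mul, hθs s hs, ← mul_assoc]
      congr 1
      exact_mod_cast hn.symm)
    (fun i hi => by
      rw [Finset.sum_congr rfl fun θ hθ => by rw [hsame θ hθ i], ← Finset.mul_sum, hYE, hθs i hi]
      ring) hsq
  -- every special element is conjugate into `E`
  have hconj : ∀ g : G, g ≠ 1 → ¬ p ∣ orderOf g → Special h D.e g →
      ∃ s : zpowers σ, s ≠ 1 ∧ IsConj g (s : G) := by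
    have hsub : (Finset.univ.filter fun g : G => ∃ s : zpowers σ, s ≠ 1 ∧ IsConj g (s : G)) ⊆
        Finset.univ.filter fun g : G => g ≠ 1 ∧ ¬ p ∣ orderOf g ∧ Special h D.e g := by
      intro g hg
      obtain ⟨s, hs, hc⟩ := (Finset.mem_filter.1 hg).2
      have ho : orderOf g = orderOf (s : G) := by
        obtain ⟨c, hc'⟩ := isConj_iff.1 hc
        rw [← hc', ← MulEquiv.orderOf_eq (MulAut.conj c) g]; rfl
      refine Finset.mem_filter.2 ⟨Finset.mem_univ _, ?_, ho ▸ (orderOf_mem D hσ s).2, ?_⟩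
      · intro e
        rw [e, orderOf_one] at ho
        exact hs (Subtype.ext (orderOf_eq_one_iff.1 ho.symm))
      · obtain ⟨l, hl, hld, hle⟩ := hspec s hs
        exact ⟨l, hl, ho ▸ hld, hle⟩
    have hcnt := card_union_conj D hσ hfib
    have heq := Finset.eq_of_subset_of_card_le hsub (le_of_eq ?_)
    · intro g h1 h2 h3
      have : g ∈ Finset.univ.filter fun g : G => ∃ s : zpowers σ, s ≠ 1 ∧ IsConj g (s : G) := by
        rw [heq]; exact Finset.mem_filter.2 ⟨Finset.mem_univ _, h1, h2, h3⟩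
      exact (Finset.mem_filter.1 this).2
    · rw [hV]
      refine Nat.eq_of_mul_eq_mul_left (Nat.mul_pos D.e_pos (Nat.succ_pos r)) (Eq.trans ?_ hcnt.symm)
      rw [S.card_G, hn]
      zify [S.he.le]
      linear_combination ((D.e : ℤ) * (r + 1)) * hVF + (D.e : ℤ) * p * F * (a * h + 1) * hrZ
        - (D.e : ℤ) * p * h * F * hetZ
  have hdvde : ∀ g : G, g ≠ 1 → ¬ p ∣ orderOf g → Special h D.e g → orderOf g ∣ D.e := by
    intro g h1 h2 h3
    obtain ⟨s, -, hc⟩ := hconj g h1 h2 h3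
    obtain ⟨c, hc'⟩ := isConj_iff.1 hc
    rw [← MulEquiv.orderOf_eq (MulAut.conj c) g, show MulAut.conj c g = (s : G) from hc']
    exact (orderOf_mem D hσ s).1
  have hprime_e : ∀ l : ℕ, l.Prime → l ∣ h * D.e → l ∣ D.e := by
    intro l hl hle
    haveI := Fact.mk hl
    obtain ⟨g, hg⟩ := exists_prime_orderOf_dvd_card' (G := G) l
      (hG ▸ (hle.mul_left p).mul_right F)
    refine hg ▸ hdvde g (fun e => hl.ne_one (by rw [← hg, e, orderOf_one])) ?_ ⟨l, hl, hg ▸ dvd_rfl, hle⟩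
    rw [hg]
    exact fun hd => hphe (((Nat.prime_dvd_prime_iff_eq hp hl).1 hd) ▸ hle)
  obtain ⟨d, hd⟩ : 2 ∣ D.e := hprime_e 2 Nat.prime_two (by
    have := hp.odd_of_ne_two (by have := D.two_lt; omega)
    obtain ⟨j, hj⟩ := this
    exact ⟨j, by have := S.hp; omega⟩)
  have hd0 : 0 < d := by have := D.e_pos; omega
  -- the involution in `E`
  have hτo : orderOf (σ ^ d) = 2 := by
    rw [orderOf_pow_of_dvd hd0.ne' (hσ ▸ hd ▸ dvd_mul_left d 2), hσ, hd, Nat.mul_div_cancel _ hd0]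
  let τ : zpowers σ := ⟨σ ^ d, pow_mem (mem_zpowers σ) d⟩
  have hτ1 : τ ≠ 1 := fun e => by
    have : σ ^ d = 1 := congrArg Subtype.val e
    rw [this, orderOf_one] at hτo
    norm_num at hτo
  have hCτ : Nat.card (centralizer ({σ ^ d} : Set G)) = D.e * (r + 1) := by
    rw [← hfib τ hτ1, show fibre σ (τ : G) = {τ} from ?_,
      Finset.card_singleton, one_mul]
    refine Finset.eq_singleton_iff_unique_mem.2 ⟨mem_fibre.2 (IsConj.refl _),
      fun j hj => Subtype.ext (eq_tau (hσ.trans hd) j.2 ?_)⟩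
    obtain ⟨c, hc⟩ := isConj_iff.1 (mem_fibre.1 hj)
    rw [← hc, show c * (τ : G) * c⁻¹ = MulAut.conj c (τ : G) from rfl, MulEquiv.orderOf_eq]
    exact hτo
  have ht1 : t = 1 := by
    have hco : (Nat.card (centralizer ({σ ^ d} : Set G))).Coprime (p * F) := by
      refine Nat.coprime_of_dvd fun q hq h1 h2 => ?_
      haveI := Fact.mk hq
      obtain ⟨⟨g, hgC⟩, hgo⟩ := exists_prime_orderOf_dvd_card' (G := centralizer ({σ ^ d} : Set G)) q h1
      rw [Subgroup.orderOf_mk] at hgo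
      have hqe : ¬ q ∣ D.e := fun hd' => by
        rcases hq.dvd_mul.1 h2 with h3 | h3
        · exact hpe (((Nat.prime_dvd_prime_iff_eq hq hp).1 h3) ▸ hd')
        · exact hFco q hq h3 (hd'.mul_left h)
      have hq2 : q ≠ 2 := fun e => hqe (e ▸ ⟨d, hd⟩)
      have hgl := orderOf_mul_prime ((Nat.coprime_primes hq Nat.prime_two).2 hq2) hgo hτo
        (mem_centralizer_singleton_iff.1 hgC)
      by_cases hqp : q = p
      · have := (singular D S.hC (g := g * σ ^ d) (by rw [hgl, hqp]; exact dvd_mul_right _ _)).1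
        rw [hgl, hqp] at this
        have := hp.pos
        omega
      · refine hqe ((dvd_mul_right q 2).trans (hgl ▸ hdvde (g * σ ^ d) ?_ ?_ ?_))
        · intro e
          rw [e, orderOf_one] at hgl
          omega
        · rw [hgl]
          intro hd'
          rcases hp.dvd_mul.1 hd' with h3 | h3
          · exact hqp ((Nat.prime_dvd_prime_iff_eq hp hq).1 h3).symm
          · exact absurd (Nat.le_of_dvd Nat.two_pos h3) (by have := D.two_lt; omega)
        · exact ⟨2, Nat.prime_two, hgl ▸ dvd_mul_left 2 q, dvd_mul_of_dvd_right ⟨d, hd⟩ h⟩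
    have h1 : D.e * (r + 1) ∣ h * D.e := by
      rw [← hCτ]
      refine hco.dvd_of_dvd_mul_right ?_
      rw [show h * D.e * (p * F) = Nat.card G by rw [hG]; ring]
      exact card_subgroup_dvd_card (centralizer ({σ ^ d} : Set G))
    rw [hrt, show D.e * (t * h) = t * (h * D.e) by ring] at h1
    have hle := Nat.le_of_dvd (Nat.mul_pos hh D.e_pos) h1
    have ht0 : 0 < t := Nat.pos_of_ne_zero fun e => by subst e; omega
    by_contra hne
    have := Nat.mul_le_mul_right (h * D.e) (show 2 ≤ t by omega)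
    have := Nat.mul_pos hh D.e_pos
    omega
  subst ht1
  rw [one_mul] at hrt
  have hr0 : r ≠ 0 := fun e => by
    have := Basic.one_lt_card_sylow (p := p) S.hG (prime_dvd_card D)
    rw [S.hn, e] at this
    omega
  rcases Nat.lt_or_ge h 3 with h3 | h3
  · exact Or.inl (by omega)
  -- `h` is a power of two
  have heh : D.e = a * h + 2 := by rw [het]; ring
  have hpow := Nat.eq_prime_pow_of_unique_prime_dvd (n := h) hh.ne' (p := 2) fun {l} hl hlh => by
    have h1 := hprime_e l hl (hlh.mul_right _)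
    exact (Nat.prime_dvd_prime_iff_eq hl Nat.prime_two).1
      ((Nat.dvd_add_right (hlh.mul_left a)).1 (heh ▸ h1))
  obtain ⟨v, hv⟩ : ∃ v, h = 2 ^ v := ⟨_, hpow⟩
  have h4 : 4 ∣ h := by
    rw [hv, show (4 : ℕ) = 2 ^ 2 by norm_num]
    refine pow_dvd_pow 2 ?_
    by_contra hlt
    have := Nat.pow_le_pow_right (show 0 < 2 by norm_num) (show v ≤ 1 by omega)
    omega
  have hdodd : ¬ 2 ∣ d := fun h2 => by
    have h5 : 4 ∣ D.e := hd ▸ mul_dvd_mul_left 2 h2
    exact absurd (Nat.le_of_dvd Nat.two_pos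
      ((Nat.dvd_add_right (h4.mul_left a)).1 (heh ▸ h5))) (by norm_num)
  have hFodd : ¬ 2 ∣ F := fun h2 => hFco 2 Nat.prime_two h2 (dvd_mul_of_dvd_right ⟨d, hd⟩ h)
  haveI : Fact (Nat.Prime 2) := ⟨Nat.prime_two⟩
  have hT : ∀ T : Sylow 2 G, Nat.card (T : Subgroup G) = 2 * h := fun T => by
    rw [Basic.card_sylow_eq_pow (a := v + 1) (m := p * d * F) (by rw [hG, hd, hv]; ring) ?_ T, hv, pow_succ']
    intro h2
    rcases Nat.prime_two.dvd_mul.1 h2 with h2 | h2
    · rcases Nat.prime_two.dvd_mul.1 h2 with h2 | h2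
      · have := (Nat.prime_dvd_prime_iff_eq Nat.prime_two hp).1 h2
        have := D.two_lt
        omega
      · exact hdodd h2
    · exact hFodd h2
  -- a two-element has order at most two
  have htwo : ∀ g : G, (∃ j, orderOf g = 2 ^ j) → g ^ 2 = 1 := by
    rintro g ⟨j, hj⟩
    by_cases hg : g = 1
    · rw [hg, one_pow]
    have hj0 : j ≠ 0 := fun e => hg (orderOf_eq_one_iff.1 (by rw [hj, e, pow_zero]))
    have h1 := hdvde g hg (by
      rw [hj]
      intro hd'
      have := (Nat.prime_dvd_prime_iff_eq hp Nat.prime_two).1 (hp.dvd_of_dvd_pow hd')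
      have := D.two_lt
      omega) ⟨2, Nat.prime_two, hj ▸ dvd_pow_self 2 hj0, dvd_mul_of_dvd_right ⟨d, hd⟩ h⟩
    rw [← orderOf_dvd_iff_pow_eq_one]
    rw [hj] at h1 ⊢
    rw [show (2 : ℕ) = 2 ^ 1 from (pow_one 2).symm]
    refine pow_dvd_pow 2 ?_
    by_contra hlt
    have h2 : 2 * 2 ∣ D.e := (pow_dvd_pow 2 (show 2 ≤ j by omega) |>.trans h1)
    exact hdodd (Nat.dvd_of_mul_dvd_mul_left Nat.two_pos (hd ▸ h2))
  have hTcomm : ∀ T : Sylow 2 G, ∀ x ∈ (T : Subgroup G), x ^ 2 = 1 := fun T x hx => by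
    refine htwo x ?_
    obtain ⟨j, hj⟩ := IsPGroup.iff_orderOf.1 T.2 ⟨x, hx⟩
    exact ⟨j, by rwa [Subgroup.orderOf_mk] at hj⟩
  rcases Nat.eq_zero_or_pos a with ha0 | ha0
  · right
    have he2 : D.e = 2 := by rw [heh, ha0]; ring
    obtain ⟨T⟩ : Nonempty (Sylow 2 G) := inferInstance
    refine ⟨he2, by omega, ⟨T, fun hc => ?_, ?_, ?_⟩, ⟨v, hv⟩, fun x hx => ?_⟩
    · obtain ⟨g, hg⟩ := hc.exists_ofOrder_eq_natCard
      rw [hT T, ← Subgroup.orderOf_coe] at hg
      have h1 := orderOf_dvd_of_pow_eq_one (hTcomm T g g.2)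
      rw [hg] at h1
      exact absurd (Nat.le_of_dvd Nat.two_pos h1) (by omega)
    · exact Basic.sylow_not_normal S.hG (hG ▸ ((dvd_mul_of_dvd_right ⟨d, hd⟩ h).mul_left p).mul_right F) T
    · rw [hT T]
      have := S.hp
      rw [he2] at this
      omega
    · have hxc : ∀ c ∈ centralizer ({x} : Set G), c ^ 2 = 1 := by
        intro c hc
        obtain ⟨s, hs, hcs⟩ := hconj x (fun e => by rw [e, orderOf_one] at hx; omega)
          (by rw [hx]; intro hd'; have := Nat.le_of_dvd Nat.two_pos hd'; have := D.two_lt; omega)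
          ⟨2, Nat.prime_two, hx ▸ dvd_rfl, dvd_mul_of_dvd_right ⟨d, hd⟩ h⟩
        have hs2 : orderOf (s : G) = 2 := by
          obtain ⟨c', hc'⟩ := isConj_iff.1 hcs
          rw [← hc', show c' * x * c'⁻¹ = MulAut.conj c' x from rfl, MulEquiv.orderOf_eq, hx]
        have hCx : Nat.card (centralizer ({x} : Set G)) = D.e * (r + 1) := by
          rw [← card_centralizer_conj hcs, eq_tau (hσ.trans hd) s.2 hs2, hCτ]
        by_cases hc1 : c = 1
        · rw [hc1, one_pow]
        have hdc : orderOf c ∣ h * D.e := by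
          rw [show h * D.e = D.e * (r + 1) by rw [hrt]; ring, ← hCx,
            show c = ((⟨c, hc⟩ : centralizer ({x} : Set G)) : G) from rfl, Subgroup.orderOf_coe]
          exact orderOf_dvd_natCard _
        obtain ⟨l, hl, hlc⟩ := Nat.exists_prime_and_dvd (fun e => hc1 (orderOf_eq_one_iff.1 e))
        rw [← orderOf_dvd_iff_pow_eq_one]
        refine (hdvde c hc1 (fun hd' => hphe (hd'.trans hdc)) ⟨l, hl, hlc, hlc.trans hdc⟩).trans ?_
        rw [he2]
      refine ⟨⟨⟨fun a b => Subtype.ext ?_⟩⟩, hxc⟩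
      have h1 : ∀ y ∈ centralizer ({x} : Set G), y⁻¹ = y := fun y hy =>
        inv_eq_of_mul_eq_one_right (by rw [← pow_two, hxc y hy])
      show (a : G) * b = b * a
      conv_lhs => rw [← h1 _ (mul_mem a.2 b.2), mul_inv_rev, h1 _ a.2, h1 _ b.2]
  -- the case of more characters of degree `n` is impossible
  exfalso
  have hCE : ∀ s : zpowers σ, s ≠ 1 → s ≠ τ → centralizer ({(s : G)} : Set G) = zpowers σ := by
    have hle : ∀ i : zpowers σ, D.e ≤ Nat.card (centralizer ({(i : G)} : Set G)) := fun i => by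
      rw [← hE]
      refine Nat.card_le_card_of_injective (Subgroup.inclusion ?_) (Subgroup.inclusion_injective _)
      refine zpowers_le.2 (mem_centralizer_singleton_iff.2 ?_)
      obtain ⟨j, hj⟩ := mem_zpowers_iff.1 i.2
      rw [← hj]
      exact ((Commute.refl σ).zpow_right j).eq
    have hnorm : ∀ Ψ : zpowers σ → ℂ, Cfsg.IsCharacter (zpowers σ) Ψ → ∀ w : ℕ, Ψ 1 = (w : ℂ) →
        ∀ c : ℕ, (∀ μ : Cfsg.IrrCharacter (zpowers σ), ∀ j : ℕ,
          Cfsg.classInner Ψ (μ : zpowers σ → ℂ) = (j : ℂ) → j * j = c * j) →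
        ∑ s ∈ Finset.univ.erase (1 : zpowers σ), Ψ s * conj (Ψ s) =
          (c : ℂ) * w * D.e - (w : ℂ) ^ 2 := by
      intro Ψ hΨ w hw c hc
      obtain ⟨j, hj, hinner⟩ := exists_mult hΨ
      have hone : ∀ μ : Cfsg.IrrCharacter (zpowers σ), (μ : zpowers σ → ℂ) 1 = 1 := fun μ => by
        refine irr_degree_one_of_comm (fun a b => Subtype.ext ?_) μ.2
        obtain ⟨i, hi⟩ := mem_zpowers_iff.1 a.2
        obtain ⟨i', hi'⟩ := mem_zpowers_iff.1 b.2
        simp only [Subgroup.coe_mul, ← hi, ← hi', ← zpow_add, add_comm]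
      have hwsum : (w : ℂ) = ∑ μ : Cfsg.IrrCharacter (zpowers σ), (j μ : ℂ) := by
        rw [← hw, congrFun hj 1, Finset.sum_apply]
        exact Finset.sum_congr rfl fun μ _ => by simp [hone μ]
      have h1 : Cfsg.classInner Ψ Ψ = (c : ℂ) * w := by
        rw [classInner_eq_sum Ψ (char_isClassFunction hΨ), hwsum, Finset.mul_sum]
        refine Finset.sum_congr rfl fun μ _ => ?_
        rw [classInner_conj_symm Ψ (μ : zpowers σ → ℂ), hinner μ, map_natCast]
        exact_mod_cast hc μ (j μ) (hinner μ)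
      rw [classInner_def, ← Finset.add_sum_erase _ _ (Finset.mem_univ (1 : zpowers σ)), hw, map_natCast,
        hE] at h1
      have he0 : (D.e : ℂ) ≠ 0 := Nat.cast_ne_zero.2 D.e_pos.ne'
      field_simp at h1
      linear_combination h1
    have hsumC : ∑ i ∈ Finset.univ.erase (1 : zpowers σ), (Nat.card (centralizer ({(i : G)} : Set G)) : ℤ) =
        D.e * (h + D.e - 2) := by
      have hC2 : ∀ i : zpowers σ, i ≠ 1 → (Nat.card (centralizer ({(i : G)} : Set G)) : ℂ) =
          1 + ∑ χ ∈ plus D, Φ χ i * conj (Φ χ i) + (h : ℂ)⁻¹ * (ΦY i * conj (ΦY i)) + r := by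
        intro i hi
        have h0 := second_orthogonality (G := G) (i : G) (i : G)
        rw [if_pos (IsConj.refl _), sum_split D S.ht, sum_X_erase D,
          Finset.sum_congr (s₁ := minus D) rfl fun χ hχ => by rw [hAs χ hχ i hi, zero_mul],
          Finset.sum_congr (s₁ := D.Y) rfl fun θ hθ => by rw [hsame θ hθ i],
          Finset.sum_congr (s₁ := outside D) rfl fun ψ hψ => by
            rw [hconst ψ hψ i hi, map_natCast, ← sq], hm,
          Finset.sum_congr (s₁ := plus D) rfl fun χ hχ => by rw [← (hΦ χ hχ).2.1 i hi]] at h0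
        simp only [trivIrr_coe, map_one, mul_one, Finset.sum_const, hYc, nsmul_eq_mul, smul_zero,
          mul_zero, add_zero] at h0
        rw [← h0, hYval i hi]
        have hh0 : (h : ℂ) ≠ 0 := Nat.cast_ne_zero.2 hh.ne'
        simp only [map_mul, map_natCast]
        field_simp
      have hka : ∀ μ : Cfsg.IrrCharacter (zpowers σ), ∑ χ ∈ plus D, k χ μ ≤ 1 := fun μ => by
        have := hmult μ
        by_contra hgt
        have := Nat.mul_le_mul_left h (show 2 ≤ ∑ χ ∈ plus D, k χ μ by omega)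
        omega
      apply Int.cast_injective (α := ℂ)
      rw [Int.cast_sum, Finset.sum_congr rfl fun i hi => by
        rw [Int.cast_natCast, hC2 i (Finset.mem_erase.1 hi).1]]
      rw [Finset.sum_add_distrib, Finset.sum_add_distrib, Finset.sum_add_distrib, Finset.sum_comm,
        ← Finset.mul_sum, Finset.sum_congr (s₁ := plus D) rfl fun χ hχ =>
          hnorm (Φ χ) (hΦ χ hχ).1 (r + 1) (hΦ χ hχ).2.2 1 fun μ j hj => by
            have h1 : j = k χ μ := by exact_mod_cast hj.symm.trans (hk χ μ hχ)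
            have h2 := (Finset.single_le_sum (f := fun χ => k χ μ) (fun _ _ => Nat.zero_le _) hχ).trans (hka μ)
            subst h1
            rw [one_mul]
            have : k χ μ = 0 ∨ k χ μ = 1 := Nat.le_one_iff_eq_zero_or_eq_one.1 h2
            rcases this with e | e <;> rw [e],
        hnorm ΦY hYchar (r + 1) hY1 h fun μ j hj => by
          have h1 : j = kY μ := by exact_mod_cast hj.symm.trans (hkY μ)
          subst h1
          have := hmult μ
          rcases Nat.le_one_iff_eq_zero_or_eq_one.1 (hka μ) with e | e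
          · rw [e] at this
            split_ifs at this with hμ
            · rw [hμ, htriv.1, mul_zero, mul_zero]
            · rw [show kY μ = h by omega]
          · rw [e] at this
            rw [show kY μ = 0 by omega, mul_zero, mul_zero],
        Finset.sum_const, Finset.sum_const, Finset.sum_const,
        Finset.card_erase_of_mem (Finset.mem_univ _), Finset.card_univ, ← Nat.card_eq_fintype_card, hE, ha,
        nsmul_eq_mul, nsmul_eq_mul, nsmul_eq_mul, Nat.cast_sub D.e_pos]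
      have hrC : (r : ℂ) + 1 = h := by exact_mod_cast hrt
      have heC : (D.e : ℂ) = a * h + 2 := by exact_mod_cast heh
      have hh0 : (h : ℂ) ≠ 0 := Nat.cast_ne_zero.2 hh.ne'
      push_cast
      rw [heC, show (r : ℂ) = h - 1 by linear_combination hrC]
      field_simp
      ring
    intro s hs hsτ
    refine (eq_of_le_of_card_ge (zpowers_le.2 (mem_centralizer_singleton_iff.2 ?_)) ?_).symm
    · obtain ⟨j, hj⟩ := mem_zpowers_iff.1 s.2
      rw [← hj]
      exact ((Commute.refl σ).zpow_right j).eq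
    rw [hE]
    by_contra hgt
    rw [← Finset.add_sum_erase _ _ (Finset.mem_erase.2 ⟨hτ1, Finset.mem_univ τ⟩)] at hsumC
    have hlt : ∑ i ∈ (Finset.univ.erase (1 : zpowers σ)).erase τ, (D.e : ℤ) <
        ∑ i ∈ (Finset.univ.erase (1 : zpowers σ)).erase τ, (Nat.card (centralizer ({(i : G)} : Set G)) : ℤ) := by
      refine Finset.sum_lt_sum (fun i _ => by exact_mod_cast hle i)
        ⟨s, Finset.mem_erase.2 ⟨hsτ, Finset.mem_erase.2 ⟨hs, Finset.mem_univ _⟩⟩, ?_⟩
      exact_mod_cast Nat.lt_of_not_le hgt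
    rw [Finset.sum_const, Finset.card_erase_of_mem (Finset.mem_erase.2 ⟨hτ1, Finset.mem_univ τ⟩),
      Finset.card_erase_of_mem (Finset.mem_univ _), Finset.card_univ, ← Nat.card_eq_fintype_card, hE,
      nsmul_eq_mul] at hlt
    have hCτ' : (Nat.card (centralizer ({(τ : G)} : Set G)) : ℤ) = D.e * (r + 1) := by exact_mod_cast hCτ
    rw [hCτ'] at hsumC
    have he2 : 2 ≤ D.e := S.he
    push_cast [Nat.sub_sub, Nat.cast_sub he2] at hlt
    have hrh : (r : ℤ) + 1 = h := by exact_mod_cast hrt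
    rw [hrh] at hsumC
    nlinarith
  have hd1 : 1 < d := by
    have h5 : h ≤ a * h := Nat.le_mul_of_pos_left h ha0
    omega
  let S1 : zpowers σ := ⟨σ, mem_zpowers σ⟩
  have hσne : S1 ≠ 1 ∧ S1 ≠ τ := by
    constructor <;> intro e <;> have e' := congrArg (fun y : zpowers σ => orderOf (y : G)) e <;>
      simp only [S1, τ, OneMemClass.coe_one, orderOf_one, hσ, hτo] at e' <;> omega
  have hCσ : centralizer ({σ} : Set G) = zpowers σ := hCE S1 hσne.1 hσne.2
  have hNc := card_normalizer_zpowers (σ := σ) hCσ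
  have hw := hfib S1 hσne.1
  simp only [S1, hCσ] at hw
  rw [hw] at hNc
  have hNM : normalizer ((zpowers σ : Subgroup G) : Set G) = centralizer ({σ ^ d} : Set G) := by
    refine eq_of_le_of_card_ge (fun g hg => mem_centralizer_singleton_iff.2 ?_) (by rw [hNc, hCτ])
    have h1 := (mem_normalizer_iff.1 hg (σ ^ d)).1 τ.2
    have h2 : g * σ ^ d * g⁻¹ = σ ^ d := eq_tau (hσ.trans hd) h1 (by
      rw [show g * σ ^ d * g⁻¹ = MulAut.conj g (σ ^ d) from rfl, MulEquiv.orderOf_eq, hτo])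
    exact mul_inv_eq_iff_eq_mul.1 h2
  obtain ⟨T, hTτ⟩ := (IsPGroup.of_card (n := 1) (by rw [Nat.card_zpowers, hτo, pow_one]) :
    IsPGroup 2 (zpowers (σ ^ d))).exists_le_sylow
  have hinv : ∀ x ∈ (T : Subgroup G), x⁻¹ = x := fun x hx =>
    inv_eq_of_mul_eq_one_right (by rw [← pow_two, hTcomm T x hx])
  have hcomm : ∀ x ∈ (T : Subgroup G), ∀ y ∈ (T : Subgroup G), x * y = y * x := fun x hx y hy => by
    conv_lhs => rw [← hinv _ (mul_mem hx hy), mul_inv_rev, hinv _ hx, hinv _ hy]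
  have hτT : σ ^ d ∈ (T : Subgroup G) := hTτ (mem_zpowers _)
  have hin : ∀ x ∈ (T : Subgroup G), x ∈ zpowers σ → x = 1 ∨ x = σ ^ d := fun x hx hxE => by
    by_cases hx1 : x = 1
    · exact Or.inl hx1
    · exact Or.inr (eq_tau (hσ.trans hd) hxE (orderOf_eq_prime (hTcomm T x hx) hx1))
  -- every other involution of `T` inverts `σ²`
  have hflip : ∀ x ∈ (T : Subgroup G), x ≠ 1 → x ≠ σ ^ d → x * σ ^ 2 * x⁻¹ = (σ ^ 2)⁻¹ := by
    intro x hx hx1 hxτ
    have hxN : x ∈ normalizer ((zpowers σ : Subgroup G) : Set G) := by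
      rw [hNM, mem_centralizer_singleton_iff]; exact hcomm x hx _ hτT
    have hy := (mem_normalizer_iff.1 hxN σ).1 (mem_zpowers σ)
    have hcy : σ * (x * σ * x⁻¹) = (x * σ * x⁻¹) * σ := by
      obtain ⟨j, hj⟩ := mem_zpowers_iff.1 hy
      rw [← hj]
      exact ((Commute.refl σ).zpow_right j).eq
    let z : zpowers σ := ⟨σ * (x * σ * x⁻¹), mul_mem (mem_zpowers σ) hy⟩
    have hzx : x * (z : G) * x⁻¹ = z := by
      show x * (σ * (x * σ * x⁻¹)) * x⁻¹ = σ * (x * σ * x⁻¹)
      have hxx : x * x = 1 := by rw [← pow_two, hTcomm T x hx]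
      calc x * (σ * (x * σ * x⁻¹)) * x⁻¹ = (x * σ * x⁻¹) * ((x * x) * σ * (x * x)⁻¹) := by group
        _ = (x * σ * x⁻¹) * σ := by rw [hxx]; group
        _ = _ := hcy.symm
    have hz : (z : G) ^ 2 = 1 := by
      by_cases hz1 : z = 1
      · rw [hz1]; simp
      by_cases hzτ : z = τ
      · rw [hzτ, ← hτo]; exact pow_orderOf_eq_one _
      exfalso
      have hmem : x ∈ centralizer ({(z : G)} : Set G) :=
        mem_centralizer_singleton_iff.2 (mul_inv_eq_iff_eq_mul.1 hzx)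
      rw [hCE z hz1 hzτ] at hmem
      rcases hin x hx hmem with e | e
      · exact hx1 e
      · exact hxτ e
    rw [eq_inv_iff_mul_eq_one, ← conj_pow, ← (show Commute σ (x * σ * x⁻¹) from hcy).symm.mul_pow,
      ← hcy]
    exact hz
  -- hence `T` has at most four elements
  have hs2 : (⟨σ ^ 2, pow_mem (mem_zpowers σ) 2⟩ : zpowers σ) ≠ 1 ∧
      (⟨σ ^ 2, pow_mem (mem_zpowers σ) 2⟩ : zpowers σ) ≠ τ := by
    have ho : orderOf (σ ^ 2) = d := by
      rw [orderOf_pow_of_dvd two_ne_zero (hσ ▸ hd ▸ dvd_mul_right 2 d), hσ, hd, Nat.mul_div_cancel_left _ Nat.two_pos]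
    constructor <;> intro e <;> have e' := congrArg (fun y : zpowers σ => orderOf (y : G)) e <;>
      simp only [τ, OneMemClass.coe_one, orderOf_one, ho, hτo] at e'
    · omega
    · exact hdodd (e' ▸ dvd_rfl)
  haveI := Fintype.ofFinite (T : Subgroup G)
  have hTcard : 8 ≤ Fintype.card (T : Subgroup G) := by
    rw [← Nat.card_eq_fintype_card, hT T]
    have := Nat.le_of_dvd hh h4
    omega
  have hτ' : (⟨σ ^ d, hτT⟩ : (T : Subgroup G)) ∈ (Finset.univ : Finset (T : Subgroup G)) := Finset.mem_univ _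
  obtain ⟨x0, -, hx0⟩ := Finset.exists_mem_notMem_of_card_lt_card
    (s := ({1, ⟨σ ^ d, hτT⟩} : Finset (T : Subgroup G))) (t := Finset.univ)
    (lt_of_le_of_lt Finset.card_le_two (by rw [Finset.card_univ]; omega))
  simp only [Finset.mem_insert, Finset.mem_singleton, not_or] at hx0
  obtain ⟨y, -, hy⟩ := Finset.exists_mem_notMem_of_card_lt_card
    (s := ({1, ⟨σ ^ d, hτT⟩, x0, x0 * ⟨σ ^ d, hτT⟩} : Finset (T : Subgroup G))) (t := Finset.univ)
    (lt_of_le_of_lt Finset.card_le_four (by rw [Finset.card_univ]; omega))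
  simp only [Finset.mem_insert, Finset.mem_singleton, not_or] at hy
  have hfx : ∀ x : (T : Subgroup G), x ≠ 1 → x ≠ ⟨σ ^ d, hτT⟩ →
      (x : G) * σ ^ 2 * (x : G)⁻¹ = (σ ^ 2)⁻¹ := fun x h1 h2 =>
    hflip x x.2 (fun e => h1 (Subtype.ext e)) (fun e => h2 (Subtype.ext e))
  have hmem : ((x0 * y : (T : Subgroup G)) : G) ∈ centralizer ({σ ^ 2} : Set G) := by
    refine mem_centralizer_singleton_iff.2 (mul_inv_eq_iff_eq_mul.1 ?_)
    calc ((x0 * y : (T : Subgroup G)) : G) * σ ^ 2 * ((x0 * y : (T : Subgroup G)) : G)⁻¹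
        = (x0 : G) * ((y : G) * σ ^ 2 * (y : G)⁻¹) * (x0 : G)⁻¹ := by
          rw [Subgroup.coe_mul]; group
      _ = ((x0 : G) * σ ^ 2 * (x0 : G)⁻¹)⁻¹ := by rw [hfx y hy.1 hy.2.1]; group
      _ = σ ^ 2 := by rw [hfx x0 hx0.1 hx0.2, inv_inv]
  rw [hCE _ hs2.1 hs2.2] at hmem
  have hxx : x0 * x0 = 1 := Subtype.ext (by
    simpa [pow_two] using hTcomm T x0 x0.2)
  rcases hin _ (x0 * y).2 hmem with e | e
  · have e' : x0 * y = 1 := Subtype.ext e
    refine hy.2.2.1 ?_
    calc y = x0 * x0 * y := by rw [hxx, one_mul]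
      _ = x0 := by rw [mul_assoc, e', mul_one]
  · have e' : x0 * y = ⟨σ ^ d, hτT⟩ := Subtype.ext e
    refine hy.2.2.2 ?_
    calc y = x0 * x0 * y := by rw [hxx, one_mul]
      _ = x0 * ⟨σ ^ d, hτT⟩ := by rw [mul_assoc, e']

end Cfsg.Agent.PrimeBlock.Brauer
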