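import Cfsg.Agent.Lib.PrimeBlock.Brauer.Large
import Cfsg.Agent.Lib.PrimeBlock.Brauer.Arith
import Cfsg.Agent.Lib.Perm.Zassenhaus.Main
import Cfsg.Agent.S1230

/-!
# Brauer's theorem on `1 + r p` Sylow subgroups of order `p`
-/

set_option linter.style.haveILetI false
set_option linter.unusedSectionVars false

namespace Cfsg.Agent.PrimeBlock.Brauer

open Cfsg.Agent.Characters Cfsg.Agent.Blocks Subgroup
open Cfsg.Agent.SmallSimple

universe u

variable {G : Type u} [Group G] [Finite G] [IsSimpleGroup G] {p : ℕ} [Fact p.Prime]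

set_option maxHeartbeats 2000000 in
theorem cases_of_not_third (hG : ¬ IsMulCommutative G) (P : Sylow p G)
    (hP : Nat.card (P : Subgroup G) = p)
    (hC : Nat.card (centralizer ((P : Subgroup G) : Set G)) = p) {r : ℕ}
    (hn : Nat.card (Sylow p G) = 1 + r * p) (h3 : ¬ Third p r) :
    (r = 1 ∧ 2 * Nat.card (normalizer ((P : Subgroup G) : Set G)) = p * (p - 1)) ∨
      ((∃ v : ℕ, p = 2 ^ v + 1) ∧ (∃ T : Sylow 2 G, ¬ IsCyclic (T : Subgroup G) ∧
        ¬ (T : Subgroup G).Normal ∧ Nat.card (T : Subgroup G) = p - 1) ∧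
        ∀ x : G, orderOf x = 2 → IsMulCommutative (centralizer ({x} : Set G)) ∧
          ∀ c ∈ centralizer ({x} : Set G), c ^ 2 = 1) := by
  classical
  have hp : p.Prime := Fact.out
  obtain ⟨e, hed, he1, hNe, -⟩ := Centralize.centralizer_data hG P hP
  have hp2 : p ≠ 2 := by
    rintro rfl
    have := Nat.le_of_dvd (by norm_num) hed
    omega
  obtain ⟨D, ht, hts⟩ := exists_pblock' hG hp2 P hP
  have heD : D.e = e := by
    have := card_normalizer D hC
    rw [hNe, hC] at this
    exact (Nat.eq_of_mul_eq_mul_left hp.pos this).symm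
  have he1' : 1 < D.e := heD ▸ he1
  obtain ⟨h, hh⟩ := D.e_dvd
  have hpp : p = h * D.e + 1 := by rw [mul_comm h]; have := hp.one_lt; omega
  have hh0 : 0 < h := Nat.pos_of_ne_zero fun e0 => by subst e0; have := hp.one_lt; omega
  have hpZ : (p : ℤ) = (h : ℤ) * D.e + 1 := by exact_mod_cast hpp
  have hhZ : (0 : ℤ) < h := by exact_mod_cast hh0
  have heZ : (0 : ℤ) < D.e := by exact_mod_cast D.e_pos
  have heltZ : (D.e : ℤ) < p := by exact_mod_cast D.e_lt
  have hpZ0 : (0 : ℤ) < p := by exact_mod_cast hp.pos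
  have hcard : Nat.card G = p * (D.e * (1 + r * p)) := by rw [card_group D hC, hn]; ring
  have hr : 0 < r := Nat.pos_of_ne_zero fun e0 => by
    have := Basic.one_lt_card_sylow (p := p) hG (prime_dvd_card D)
    rw [hn, e0] at this
    omega
  have hthird : ∀ m u : ℤ, 0 < m → 0 < u →
      (r : ℤ) * (u + 1) = m * u * p + u ^ 2 + u + m → False :=
    fun m u hm hu he => h3 (third_of_int hm hu he)
  -- a degree and its cofactor
  have hcof : ∀ χ : Cfsg.IrrCharacter G, ∀ c : ℤ, ¬ (p : ℤ) ∣ c → (p : ℤ) ∣ c - deg χ →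
      ∃ v : ℤ, 0 < v ∧ (deg χ : ℤ) * v = (1 + r * p) * D.e ∧ (p : ℤ) ∣ D.e - c * v := by
    intro χ c hc hd
    have hnd : ¬ p ∣ deg χ := fun h => hc (by
      have := hd.add (Int.natCast_dvd_natCast.2 h); simpa using this)
    obtain ⟨v, hv⟩ := (((Nat.Prime.coprime_iff_not_dvd hp).2 hnd).symm).dvd_of_dvd_mul_left
      (hcard ▸ char_degree_dvd_card χ)
    have hv' : (deg χ : ℤ) * v = (1 + r * p) * D.e := by
      have : ((D.e * (1 + r * p) : ℕ) : ℤ) = ((deg χ * v : ℕ) : ℤ) := by rw [hv]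
      push_cast at this; linear_combination -this
    obtain ⟨j, hj⟩ := hd
    refine ⟨v, Int.natCast_pos.2 (Nat.pos_of_ne_zero fun e0 => ?_), hv',
      ⟨-(r : ℤ) * D.e - j * v, by linear_combination -hv' - (v : ℤ) * hj⟩⟩
    rw [e0, mul_zero] at hv
    have := Nat.mul_pos D.e_pos (show 0 < 1 + r * p by omega)
    omega
  have hp1 : ¬ (p : ℤ) ∣ 1 := fun h => hp.ne_one (Nat.dvd_one.1 (Int.natCast_dvd_natCast.1 (by simpa using h)))
  have hX : ∀ χ ∈ D.X, χ ≠ trivIrr G → (D.sgn χ = 1 ∧ deg χ = 1 + r * p) ∨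
      (D.sgn χ = -1 ∧ deg χ = p - 1 ∧ ∃ t : ℕ, r + 1 = t * h) := by
    intro χ hχ hne
    have hd1 : deg χ ≠ 1 := deg_ne_one hG hne
    have h0 : 0 < deg χ := charDegree_pos χ
    obtain ⟨u, hu⟩ : (p : ℤ) ∣ (deg χ : ℤ) - D.sgn χ := Int.ModEq.dvd (D.deg_X χ hχ).symm
    have hsq := deg_sq_lt hne
    rcases D.sgn_eq χ hχ with hs | hs <;> rw [hs] at hu
    · left
      refine ⟨hs, ?_⟩
      obtain ⟨v, hv0, hv, w, hw⟩ := hcof χ 1 hp1 ⟨-u, by linear_combination -hu⟩
      have hu0 : 0 < u := pos_of_mul_pos_right (show 0 < (p : ℤ) * u by omega) hpZ0.le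
      have hw0 : w ≤ 0 := by
        by_contra hh'
        push Not at hh'
        have := mul_le_mul_of_nonneg_left (show (1 : ℤ) ≤ w by omega) hpZ0.le
        omega
      rcases plus_case hpZ hhZ heZ (u := u) (t := -w) (r := r) hu0.le (by omega)
          (by linear_combination hv - v * hu + (u * p + 1) * hw) with h' | h' | ⟨m, hm, heq⟩
      · omega
      · have hw' : w = 0 := by omega
        have : ((deg χ : ℕ) : ℤ) = ((1 + r * p : ℕ) : ℤ) := by
          refine mul_right_cancel₀ heZ.ne' ?_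
          rw [hw', mul_zero] at hw
          push_cast
          linear_combination hv + (deg χ : ℤ) * hw
        exact_mod_cast this
      · exact (hthird m u hm hu0 heq).elim
    · right
      obtain ⟨v, hv0, hv, w, hw⟩ := hcof χ (-1) (by rwa [dvd_neg]) ⟨-u, by linear_combination -hu⟩
      have hu0 : 0 < u := by nlinarith
      have hw0 : 0 < w := by nlinarith
      rcases minus_case hpZ hhZ heZ (u := u) (t := w) (r := r) hu0 hw0
          (by linear_combination hv - v * hu - (u * p - 1) * hw) with ⟨h1, h2⟩ | ⟨m, u', hm, hu', heq⟩ | h'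
      · refine ⟨hs, ?_, w.toNat, ?_⟩
        · subst h1; omega
        · zify; rw [Int.toNat_of_nonneg hw0.le]; exact h2
      · exact (hthird m u' hm hu' heq).elim
      · exfalso
        have hv1 : v = 1 := by linarith
        rw [hv1, mul_one] at hv
        have hlt : (deg χ : ℤ) * deg χ < p * ((1 + r * p) * D.e) := by
          have : ((deg χ * deg χ : ℕ) : ℤ) < ((p * (D.e * (1 + r * p)) : ℕ) : ℤ) := by
            exact_mod_cast hcard ▸ hsq
          push_cast at this; linarith
        have hrp : (p : ℤ) ≤ r * p := le_mul_of_one_le_left hpZ0.le (by exact_mod_cast hr)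
        rw [← hv] at hlt
        have := lt_of_mul_lt_mul_right (by linarith : (deg χ : ℤ) * deg χ < p * deg χ) (Int.natCast_nonneg _)
        nlinarith
  have hX' : ∀ χ ∈ D.X, χ ≠ trivIrr G →
      (D.sgn χ = 1 ∧ deg χ = 1 + r * p) ∨ (D.sgn χ = -1 ∧ deg χ = p - 1) :=
    fun χ hχ hne => (hX χ hχ hne).imp id fun h => ⟨h.1, h.2.1⟩
  have S : Setup D r h := ⟨hG, ht, hts, hC, hn, hpp, he1', hX'⟩
  obtain ⟨θ, hθ⟩ := D.Y_nonempty
  have hθne : θ ≠ trivIrr G := fun e => Finset.disjoint_left.1 D.disj ht (e ▸ hθ)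
  have hd1 : deg θ ≠ 1 := deg_ne_one hG hθne
  obtain ⟨s, hs⟩ : (p : ℤ) ∣ (deg θ : ℤ) - D.ε * D.e := Int.ModEq.dvd (D.deg_Y θ hθ).symm
  have hrel : (D.ε : ℤ) * deg θ = 1 + (plus D).card * (1 + r * p : ℤ) - (minus D).card * ((p : ℤ) - 1) := by
    have := S.rel hθ (g := 1) (by simp [hp.ne_one])
    rw [Finset.sum_congr (s₁ := plus D) rfl fun χ hχ => by rw [← deg_cast, (S.mem_plus hχ).2.2.2],
      Finset.sum_congr (s₁ := minus D) rfl fun χ hχ => by rw [← deg_cast, (S.mem_minus hχ).2.2.2],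
      ← deg_cast, Finset.sum_const, Finset.sum_const] at this
    simp only [nsmul_eq_mul] at this
    have h2 : (((D.ε : ℤ) * deg θ : ℤ) : ℂ) =
        ((1 + (plus D).card * (1 + r * p : ℤ) - (minus D).card * (h * D.e : ℤ) : ℤ) : ℂ) := by
      push_cast at this ⊢; linear_combination this
    rw [show ((p : ℤ) - 1) = h * D.e by linarith]
    exact_mod_cast h2
  have hcnt := S.counts
  have hpos : (0 : ℤ) < deg θ := by exact_mod_cast charDegree_pos θ
  have hep : ¬ (p : ℤ) ∣ D.e := fun hd => S.not_dvd_p.2.2 (Int.natCast_dvd_natCast.1 hd)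
  rcases D.ε_eq with hε | hε <;> rw [hε] at hs hrel
  · obtain ⟨v, hv0, hv, w, hw⟩ := hcof θ D.e hep ⟨-s, by linear_combination -hs⟩
    obtain ⟨t, hvt⟩ : (p : ℤ) ∣ v - 1 :=
      ((Nat.prime_iff_prime_int.1 hp).dvd_or_dvd ⟨-w, by linear_combination -hw⟩).resolve_left hep
    have hs0 : 0 ≤ s := by nlinarith
    have ht0 : 0 ≤ t := by nlinarith
    rcases plus_case hpZ hhZ heZ (u := t) (t := s) (r := r) ht0 hs0
        (by linear_combination hv - v * hs - (s * p + D.e) * hvt) with h' | h' | ⟨m, hm, heq⟩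
    · exfalso
      rw [h', mul_zero] at hvt
      have hv1 : v = 1 := by linarith
      rw [hv1, mul_one] at hv
      have h1 : ((plus D).card : ℤ) + 1 ≤ D.e := by
        exact_mod_cast (show (plus D).card + 1 ≤ D.e by omega)
      have h2 : (0 : ℤ) < 1 + r * p := by positivity
      have h4 : (0 : ℤ) < r * p := mul_pos (by exact_mod_cast hr) hpZ0
      have h5 := mul_le_mul_of_nonneg_left h1 h2.le
      have h6 : (0 : ℤ) ≤ (minus D).card * ((p : ℤ) - 1) := mul_nonneg (Int.natCast_nonneg _) (by linarith)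
      nlinarith
    swap
    · rcases ht0.lt_or_eq with ht' | ht'
      · exact (hthird m t hm ht' heq).elim
      · subst ht'
        exfalso
        nlinarith
    have hfe : ∀ θ' ∈ D.Y, deg θ' = D.e := by
      intro θ' hθ'
      rw [D.deg_Y_eq hθ' hθ]
      rw [h', mul_zero] at hs
      have : (deg θ : ℤ) = D.e := by linarith
      exact_mod_cast this
    obtain ⟨χ, hχ⟩ : (minus D).Nonempty := by
      rw [Finset.nonempty_iff_ne_empty]
      intro hem
      rw [hem, Finset.card_empty, Nat.cast_zero, zero_mul, sub_zero, hfe θ hθ] at hrel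
      have hep' : (D.e : ℤ) < 1 + r * p := by
        have := le_mul_of_one_le_left hpZ0.le (show (1 : ℤ) ≤ r by exact_mod_cast hr)
        linarith
      rcases Nat.eq_zero_or_pos (plus D).card with e0 | e0
      · rw [e0] at hrel; push_cast at hrel; omega
      · nlinarith [le_mul_of_one_le_left (show (0 : ℤ) ≤ 1 + r * p by positivity)
          (show (1 : ℤ) ≤ (plus D).card by exact_mod_cast e0)]
    obtain ⟨t', ht'⟩ : ∃ t : ℕ, r + 1 = t * h := by
      have hm := S.mem_minus hχ
      rcases hX χ hm.1 hm.2.1 with h'' | h''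
      · rw [h''.1] at hm; norm_num at hm
      · exact h''.2.2
    obtain ⟨r1, h2⟩ := S.small hε ht' hfe
    refine Or.inl ⟨r1, ?_⟩
    rw [hNe, hC, ← heD]
    subst h2
    rw [show p - 1 = 2 * D.e by omega]
    ring
  · obtain ⟨v, hv0, hv, w, hw⟩ := hcof θ (-D.e) (by rwa [dvd_neg]) ⟨-s, by linear_combination -hs⟩
    obtain ⟨t, hvt⟩ : (p : ℤ) ∣ v + 1 :=
      ((Nat.prime_iff_prime_int.1 hp).dvd_or_dvd ⟨w, by linear_combination hw⟩).resolve_left hep
    have hs0 : 0 < s := by nlinarith
    have ht0 : 0 < t := by nlinarith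
    rcases minus_case hpZ hhZ heZ (u := t) (t := s) (r := r) ht0 hs0
        (by linear_combination hv - v * hs - (s * p - D.e) * hvt) with ⟨-, h2⟩ | ⟨m, u', hm, hu', heq⟩ | h'
    swap
    · exact (hthird m u' hm hu' heq).elim
    swap
    · exfalso
      have : (deg θ : ℤ) = 1 := by linarith
      exact hd1 (by exact_mod_cast this)
    lift s to ℕ using hs0.le
    have hrs : r + 1 = s * h := by exact_mod_cast h2
    have hf : ∀ θ' ∈ D.Y, deg θ' + D.e = s * p := by
      intro θ' hθ'
      rw [D.deg_Y_eq hθ' hθ]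
      have : (deg θ : ℤ) + D.e = s * p := by linear_combination hs
      exact_mod_cast this
    rcases S.large hε hrs hf with ⟨r1, h2'⟩ | ⟨he2, hrh, hT, ⟨v', hv'⟩, hinv⟩
    · refine Or.inl ⟨r1, ?_⟩
      rw [hNe, hC, ← heD]
      subst h2'
      rw [show p - 1 = 2 * D.e by omega]
      ring
    · refine Or.inr ⟨⟨v' + 1, ?_⟩, hT, hinv⟩
      rw [hpp, he2, hv', pow_succ]

/-- A simple group with `p + 1` Sylow subgroups of order `p` and normalizers of index `2` in
the affine group is `PSL₂(p)`. -/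
theorem psl_two (hG : ¬ IsMulCommutative G) (P : Sylow p G) (hP : Nat.card (P : Subgroup G) = p)
    (hC : Nat.card (centralizer ((P : Subgroup G) : Set G)) = p)
    (hn : Nat.card (Sylow p G) = 1 + p)
    (hN : 2 * Nat.card (normalizer ((P : Subgroup G) : Set G)) = p * (p - 1)) :
    ∃ (F : Type) (_ : Field F) (_ : Fintype F), Fintype.card F = p ∧ 3 < p ∧
      Nonempty (G ≃* Matrix.ProjectiveSpecialLinearGroup (Fin 2) F) := by
  classical
  have hp : p.Prime := Fact.out
  haveI := Fintype.ofFinite (Sylow p G)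
  have hpG : p ∣ Nat.card G := hP ▸ card_subgroup_dvd_card (P : Subgroup G)
  haveI hfaith := FixedPoints.faithful (p := p) hG hpG
  obtain ⟨e, hed, he1, hNe, -⟩ := Centralize.centralizer_data hG P hP
  rw [hNe, hC] at hN
  have h2e : 2 * e = p - 1 := Nat.eq_of_mul_eq_mul_left hp.pos (by linarith)
  have hPC : centralizer ((P : Subgroup G) : Set G) = (P : Subgroup G) := by
    haveI : IsCyclic (P : Subgroup G) := isCyclic_of_prime_card hP
    exact (eq_of_le_of_card_ge (le_centralizer _) (by rw [hC, hP])).symm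
  have hfixP : ∀ y ∈ (P : Subgroup G), y • P = P := fun y hy =>
    Sylow.smul_eq_iff_mem_normalizer.2 (le_normalizer hy)
  -- `P` is regular on the other points
  have honly : ∀ y ∈ (P : Subgroup G), y ≠ 1 → ∀ Q : Sylow p G, y • Q = Q → Q = P := by
    intro y hy hy1 Q hQ
    have hPQ : (P : Subgroup G) ≤ normalizer ((Q : Subgroup G) : Set G) := by
      rw [← Centralize.sylow_le_iff_mem hy hy1 hP]
      exact zpowers_le.2 (Sylow.smul_eq_iff_mem_normalizer.1 hQ)
    have h2 : (P : Subgroup G) ⊔ (Q : Subgroup G) = (Q : Subgroup G) :=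
      Q.3 (IsPGroup.to_sup_of_normal_right' P.2 Q.2 hPQ) le_sup_right
    exact Sylow.ext (P.3 Q.2 (le_sup_left.trans h2.le))
  have hreg : ∀ y z : Sylow p G, y ≠ P → z ≠ P → ∃! v : (P : Subgroup G), (v : G) • y = z := by
    intro y z hy hz
    let f : ↥(P : Subgroup G) → {Q : Sylow p G // Q ≠ P} := fun v =>
      ⟨(v : G) • y, fun e => hy (smul_left_cancel (v : G) (e.trans (hfixP v v.2).symm))⟩
    have hinj : Function.Injective f := by
      intro v v' hvv
      by_contra hne
      refine hy (honly ((v'⁻¹ * v : (P : Subgroup G)) : G) (v'⁻¹ * v).2 (fun e => hne ?_) y ?_)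
      · exact (inv_mul_eq_one.1 (Subtype.ext e : (v'⁻¹ * v : (P : Subgroup G)) = 1)).symm
      · have : (v : G) • y = (v' : G) • y := congrArg Subtype.val hvv
        rw [Subgroup.coe_mul, Subgroup.coe_inv, mul_smul, this, inv_smul_smul]
    have hcards : Nat.card {Q : Sylow p G // Q ≠ P} = Nat.card (P : Subgroup G) := by
      rw [hP, Nat.card_eq_fintype_card, Fintype.card_subtype_compl, Fintype.card_subtype_eq,
        ← Nat.card_eq_fintype_card, hn]
      omega
    obtain ⟨v, hv⟩ := ((Nat.bijective_iff_injective_and_card f).2 ⟨hinj, hcards.symm⟩).2 ⟨z, hz⟩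
    exact ⟨v, congrArg Subtype.val hv, fun v' hv' => hinj (Subtype.ext (hv'.trans (congrArg Subtype.val hv).symm))⟩
  haveI : Nontrivial (Sylow p G) := Finite.one_lt_card_iff_nontrivial.1 (by rw [hn]; have := hp.pos; omega)
  obtain ⟨b, hb⟩ := exists_ne P
  -- two points
  have htwo : MulAction.IsMultiplyPretransitive G (Sylow p G) 2 := by
    rw [MulAction.is_two_pretransitive_iff]
    intro A B C E hAB hCE
    obtain ⟨g, hg⟩ := MulAction.exists_smul_eq G A P
    obtain ⟨k, hk⟩ := MulAction.exists_smul_eq G C P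
    obtain ⟨v, hv, -⟩ := hreg (g • B) (k • E) (fun e => hAB (smul_left_cancel g (hg.trans e.symm)))
      (fun e => hCE (smul_left_cancel k (hk.trans e.symm)))
    refine ⟨k⁻¹ * v * g, ?_, ?_⟩
    · rw [mul_smul, mul_smul, hg, hfixP v v.2, ← hk, inv_smul_smul]
    · rw [mul_smul, mul_smul, hv, inv_smul_smul]
  -- three points
  have hthree : ∀ g : G, g • P = P → ∀ y z : Sylow p G, y ≠ P → z ≠ P → y ≠ z → g • y = y → g • z = z →
      g = 1 := by
    intro g hgP y z hy hz hyz hgy hgz
    obtain ⟨v, hv, huniq⟩ := hreg y z hy hz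
    have hgN : g ∈ normalizer ((P : Subgroup G) : Set G) := Sylow.smul_eq_iff_mem_normalizer.1 hgP
    have hmem : g * (v : G) * g⁻¹ ∈ (P : Subgroup G) := (mem_normalizer_iff.1 hgN _).1 v.2
    have hgv : g * (v : G) * g⁻¹ = v := by
      have := huniq ⟨_, hmem⟩ (by
        show (g * (v : G) * g⁻¹) • y = z
        rw [mul_smul, mul_smul, inv_smul_eq_iff.2 hgy.symm, hv, hgz])
      exact congrArg Subtype.val this
    have hv1 : (v : G) ≠ 1 := fun e => hyz (by rw [← hv, e, one_smul])
    have hgC : g ∈ (P : Subgroup G) := by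
      rw [← hPC, mem_centralizer_iff]
      intro x hx
      rw [SetLike.mem_coe, ← Centralize.sylow_le_iff_mem v.2 hv1 hP, mem_zpowers_iff] at hx
      obtain ⟨i, rfl⟩ := hx
      exact (Commute.zpow_left ((mul_inv_eq_iff_eq_mul.1 hgv).symm : Commute (v : G) g) i).eq
    by_contra hg1
    exact hy (honly g hgC hg1 y hgy)
  have hfree : ∀ g : G, ∀ A B C : Sylow p G, A ≠ B → B ≠ C → A ≠ C → g • A = A → g • B = B → g • C = C →
      g = 1 := by
    intro g A B C hAB hBC hAC hA hB hC'
    obtain ⟨k, hk⟩ := MulAction.exists_smul_eq G A P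
    have hconj : ∀ Q : Sylow p G, g • Q = Q → (k * g * k⁻¹) • (k • Q) = k • Q := fun Q hQ => by
      rw [mul_smul, mul_smul, inv_smul_smul, hQ]
    have := hthree (k * g * k⁻¹) (by rw [← hk]; exact hconj A hA) (k • B) (k • C)
      (fun e => hAB (smul_left_cancel k (hk.trans e.symm)))
      (fun e => hAC (smul_left_cancel k (hk.trans e.symm))) (fun e => hBC (smul_left_cancel k e))
      (hconj B hB) (hconj C hC')
    rwa [mul_inv_eq_one, mul_eq_left] at this
  -- the two-point stabilizer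
  set N := normalizer ((P : Subgroup G) : Set G) with hNdef
  have hA : Nat.card ↥(MulAction.stabilizer G P ⊓ MulAction.stabilizer G b) = e := by
    have hSN : MulAction.stabilizer G P = N := P.stabilizer_eq_normalizer
    let α := {Q : Sylow p G // Q ≠ P}
    letI : MulAction N α :=
      { smul := fun g x => ⟨(g : G) • x.1, fun h => x.2 (smul_left_cancel (g : G)
          (h.trans (Sylow.smul_eq_iff_mem_normalizer.2 g.2).symm))⟩
        one_smul := fun x => Subtype.ext (one_smul G x.1)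
        mul_smul := fun g g' x => Subtype.ext (mul_smul (g : G) (g' : G) x.1) }
    haveI : MulAction.IsPretransitive N α := ⟨fun x y => by
      obtain ⟨v, hv, -⟩ := hreg x.1 y.1 x.2 y.2
      exact ⟨⟨v, le_normalizer v.2⟩, Subtype.ext hv⟩⟩
    have h := MulAction.index_stabilizer_of_transitive N (⟨b, hb⟩ : α)
    have hc : Nat.card α = p := by
      rw [Nat.card_eq_fintype_card, Fintype.card_subtype_compl, Fintype.card_subtype_eq,
        ← Nat.card_eq_fintype_card, hn]
      omega
    rw [hc] at h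
    have h' := (MulAction.stabilizer N (⟨b, hb⟩ : α)).card_mul_index
    rw [h, hNe, hC, mul_comm p e] at h'
    rw [← Nat.eq_of_mul_eq_mul_right hp.pos h']
    refine Nat.card_congr
      { toFun := fun g => ⟨⟨g.1, hSN ▸ g.2.1⟩, Subtype.ext g.2.2⟩
        invFun := fun g => ⟨(g.1 : G), hSN.symm ▸ g.1.2, congrArg Subtype.val g.2⟩
        left_inv := fun g => rfl
        right_inv := fun g => rfl }
  have hnorm : ((P : Subgroup G).subgroupOf (MulAction.stabilizer G P)).Normal := by
    rw [P.stabilizer_eq_normalizer]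
    exact Subgroup.normal_in_normalizer
  have hcomm : IsMulCommutative (P : Subgroup G) := by
    haveI : IsCyclic (P : Subgroup G) := isCyclic_of_prime_card hP
    exact IsCyclic.isMulCommutative
  have hZ : Cfsg.IsZassenhausGroup G (Sylow p G) := by
    refine ⟨hfaith, htwo, hfree, ?_, fun K hK htr => ⟨P, fun hbot => ?_⟩⟩
    · haveI : Nontrivial ↥(MulAction.stabilizer G P ⊓ MulAction.stabilizer G b) :=
        Finite.one_lt_card_iff_nontrivial.1 (by rw [hA]; exact he1)
      obtain ⟨g, hg⟩ := exists_ne (1 : ↥(MulAction.stabilizer G P ⊓ MulAction.stabilizer G b))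
      exact ⟨g, fun h => hg (Subtype.ext h), P, b, hb.symm, g.2.1, g.2.2⟩
    · rcases hK.eq_bot_or_eq_top with hb' | hb'
      · obtain ⟨v, hv⟩ := htr.exists_smul_eq P b
        have : (v : G) = 1 := by simpa [hb'] using v.2
        exact hb (by rw [← hv]; show ((v : G) • P) = P; rw [this, one_smul])
      · haveI : Nontrivial (P : Subgroup G) := Finite.one_lt_card_iff_nontrivial.1 (by rw [hP]; exact hp.one_lt)
        obtain ⟨y, hy⟩ := exists_ne (1 : (P : Subgroup G))
        have hm : (⟨(y : G), hb' ▸ Subgroup.mem_top _⟩ : K) ∈ MulAction.stabilizer K P := hfixP y y.2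
        rw [hbot, Subgroup.mem_bot] at hm
        exact hy (Subtype.ext (congrArg Subtype.val hm : ((y : G)) = 1))
  have hcard : Fintype.card (Sylow p G) =
      2 * Nat.card ↥(MulAction.stabilizer G P ⊓ MulAction.stabilizer G b) + 2 := by
    rw [hA, ← Nat.card_eq_fintype_card, hn]
    have := hp.two_le
    omega
  obtain ⟨K, iK, iF, -, hK, hiso⟩ := Cfsg.Agent.Perm.Zassenhaus.psl_of_zass hZ
    (Cfsg.Agent.Perm.Zassenhaus.frame_of_zass hZ hb.symm (P : Subgroup G)
      (fun y hy => hfixP y hy) hnorm hcomm hreg) hcard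
  refine ⟨K, iK, iF, ?_, by omega, hiso⟩
  rw [← Nat.card_eq_fintype_card (α := Sylow p G), hn] at hK
  omega

/-- Brauer's theorem: `PSL₂(p)` and `PSL₂(p - 1)`. -/
theorem brauer (hG : ¬ IsMulCommutative G) (P : Sylow p G) (hP : Nat.card (P : Subgroup G) = p)
    (hC : Nat.card (centralizer ((P : Subgroup G) : Set G)) = p) {r : ℕ}
    (hn : Nat.card (Sylow p G) = 1 + r * p) (h3 : ¬ Third p r) :
    (∃ (F : Type) (_ : Field F) (_ : Fintype F), Fintype.card F = p ∧ 3 < p ∧
      Nonempty (G ≃* Matrix.ProjectiveSpecialLinearGroup (Fin 2) F)) ∨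
    (∃ (m : ℕ) (F : Type) (_ : Field F) (_ : Fintype F), Fintype.card F = 2 ^ m ∧ p = 2 ^ m + 1 ∧ 3 < p ∧
      Nonempty (G ≃* Matrix.ProjectiveSpecialLinearGroup (Fin 2) F)) := by
  rcases cases_of_not_third hG P hP hC hn h3 with ⟨hr, hN⟩ | ⟨⟨v, hv⟩, ⟨T, hT1, hT2, hT3⟩, hinv⟩
  · exact Or.inl (psl_two hG P hP hC (by rw [hn, hr, one_mul]) hN)
  · obtain ⟨F, iF, iFt, hF, hiso⟩ := Cfsg.Agent.S1230.result T hT1 hT2 hinv
    refine Or.inr ⟨v, F, iF, iFt, by rw [hF, hT3, hv, Nat.add_sub_cancel], hv, ?_, hiso⟩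
    by_contra hp3
    haveI : Fact (Nat.Prime 2) := ⟨Nat.prime_two⟩
    refine hT1 ?_
    have h2 : Nat.card (T : Subgroup G) ∣ 2 := by
      rw [hT3]
      have := (Fact.out : p.Prime).two_le
      interval_cases p <;> norm_num
    rcases (Nat.dvd_prime Nat.prime_two).1 h2 with h | h
    · haveI := (Nat.card_eq_one_iff_unique.1 h).1
      exact isCyclic_of_subsingleton
    · exact isCyclic_of_prime_card h

end Cfsg.Agent.PrimeBlock.Brauer
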