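import Cfsg.Agent.Lib.PrimeBlock.Brauer.Torus

/-!
# Exceptional characters of degree `e`
-/

set_option linter.style.haveILetI false
set_option linter.unusedSectionVars false

namespace Cfsg.Agent.PrimeBlock.Brauer

open Cfsg.Agent.Characters Cfsg.Agent.Blocks Subgroup
open scoped ComplexConjugate

universe u

variable {G : Type u} [Group G] [Finite G] [IsSimpleGroup G] {p : ℕ} [Fact p.Prime] {P : Sylow p G}
  {D : PBlock P} {r h : ℕ}

/-- An element of a centralizer whose order is a prime other than that of `s`. -/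
theorem orderOf_mul_prime {g s : G} {q l : ℕ} (hql : q.Coprime l) (hg : orderOf g = q) (hs : orderOf s = l)
    (hc : Commute g s) : orderOf (g * s) = q * l := by
  rw [hc.orderOf_mul_eq_mul_orderOf_of_coprime (by rw [hg, hs]; exact hql), hg, hs]

/-- In the normalizer of `zpowers σ` the class of `σ` is the set of its conjugates in that subgroup. -/
theorem card_normalizer_zpowers {σ : G} [Fintype (zpowers σ)]
    (hC : centralizer ({σ} : Set G) = zpowers σ) :
    Nat.card (normalizer ((zpowers σ : Subgroup G) : Set G)) =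
      (fibre σ σ).card * Nat.card (zpowers σ) := by
  classical
  set N := normalizer ((zpowers σ : Subgroup G) : Set G) with hN
  have hσN : σ ∈ N := le_normalizer (mem_zpowers σ)
  have hcen : Nat.card (centralizer ({(⟨σ, hσN⟩ : N)} : Set N)) = Nat.card (zpowers σ) := by
    have : centralizer ({(⟨σ, hσN⟩ : N)} : Set N) = (zpowers σ).subgroupOf N := by
      ext y
      rw [mem_subgroupOf, ← hC, mem_centralizer_singleton_iff, mem_centralizer_singleton_iff]
      exact Subtype.ext_iff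
    rw [this]
    exact Nat.card_congr (subgroupOfEquivOfLe le_normalizer).toEquiv
  rw [← card_carrier_mul_card_centralizer (⟨σ, hσN⟩ : N), hcen]
  congr 1
  rw [fibre, ← Fintype.card_subtype, ← Nat.card_eq_fintype_card]
  refine Nat.card_congr
    { toFun := fun c => ⟨⟨((c : N) : G), ?_⟩, ?_⟩
      invFun := fun j => ⟨⟨(j.1 : G), le_normalizer j.1.2⟩, ?_⟩
      left_inv := fun c => rfl
      right_inv := fun j => rfl }
  · obtain ⟨a, ha⟩ := isConj_iff.1 (ConjClasses.mk_eq_mk_iff_isConj.1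
      (ConjClasses.mem_carrier_iff_mk_eq.1 c.2)).symm
    rw [← ha]
    exact (mem_normalizer_iff.1 a.2 σ).1 (mem_zpowers σ)
  · obtain ⟨a, ha⟩ := isConj_iff.1 (ConjClasses.mk_eq_mk_iff_isConj.1
      (ConjClasses.mem_carrier_iff_mk_eq.1 c.2)).symm
    exact isConj_iff.2 ⟨(a : G), congrArg Subtype.val ha⟩
  · obtain ⟨a, ha⟩ := isConj_iff.1 j.2
    have hEE : (zpowers σ).map (MulAut.conj a).toMonoidHom = zpowers σ := by
      refine eq_of_le_of_card_ge ?_ (card_map_of_injective (MulAut.conj a).injective).ge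
      rw [MonoidHom.map_zpowers]
      exact zpowers_le.2 (by
        show a * σ * a⁻¹ ∈ zpowers σ
        rw [ha]; exact j.1.2)
    have haN : a ∈ N := by
      refine mem_normalizer_iff.2 fun y => ⟨fun hy => ?_, fun hy => ?_⟩
      · rw [← hEE]; exact ⟨y, hy, rfl⟩
      · rw [← hEE] at hy
        obtain ⟨z, hz, hzy⟩ := hy
        rwa [← (MulAut.conj a).injective hzy]
    exact ConjClasses.mem_carrier_iff_mk_eq.2 (ConjClasses.mk_eq_mk_iff_isConj.2
      (isConj_iff.2 ⟨⟨a, haN⟩, Subtype.ext ha⟩).symm)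

/-- The case of exceptional degree `e`. -/
theorem Setup.small (S : Setup D r h) (hε : D.ε = 1) {t : ℕ} (hrt : r + 1 = t * h)
    (hf : ∀ θ ∈ D.Y, deg θ = D.e) : r = 1 ∧ h = 2 := by
  classical
  haveI := Fintype.ofFinite G
  haveI := Fintype.ofFinite (Cfsg.IrrCharacter G)
  obtain ⟨θ₀, hθ₀⟩ := D.Y_nonempty
  have hp : p.Prime := Fact.out
  have hh := S.h_pos
  obtain ⟨a, ha⟩ : ∃ a, (plus D).card = a := ⟨_, rfl⟩
  obtain ⟨b, hb⟩ : ∃ b, (minus D).card = b := ⟨_, rfl⟩
  have hab : a + b + 1 = D.e := ha ▸ hb ▸ S.counts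
  have hrel1 : (D.e : ℤ) = 1 + a * (1 + r * p) - b * (h * D.e) := by
    have := S.rel hθ₀ (g := 1) (by simp [hp.ne_one])
    rw [Finset.sum_congr (s₁ := plus D) rfl fun χ hχ => by rw [← deg_cast, (S.mem_plus hχ).2.2.2],
      Finset.sum_congr (s₁ := minus D) rfl fun χ hχ => by rw [← deg_cast, (S.mem_minus hχ).2.2.2],
      ← deg_cast, hf θ₀ hθ₀, hε, Finset.sum_const, Finset.sum_const, ha, hb] at this
    simp only [nsmul_eq_mul] at this
    push_cast at this
    have h2 : ((D.e : ℤ) : ℂ) = ((1 + a * (1 + r * p) - b * (h * D.e) : ℤ) : ℂ) := by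
      push_cast; linear_combination this
    exact_mod_cast h2
  have hpZ : (p : ℤ) = h * D.e + 1 := by exact_mod_cast S.hp
  have hrZ : (r : ℤ) + 1 = t * h := by exact_mod_cast hrt
  have habZ : (a : ℤ) + b + 1 = D.e := by exact_mod_cast hab
  have het : D.e = a * (t * h) + 1 := by
    have : ((D.e : ℤ) - 1 - a * (t * h)) * (1 + h * D.e) = 0 := by
      linear_combination hrel1 + a * (1 + h * (D.e : ℤ)) * hrZ + (a : ℤ) * r * hpZ - (h : ℤ) * D.e * habZ
    have h1 := (mul_eq_zero.1 this).resolve_right (by positivity)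
    have h2 : (D.e : ℤ) = ((a * (t * h) + 1 : ℕ) : ℤ) := by push_cast; linear_combination h1
    exact_mod_cast h2
  have hne : D.e.Coprime (1 + r * p) := by
    refine Nat.coprime_of_dvd fun l hl h1 h2 => ?_
    have h3 : l ∣ t * h := by
      have h4 : (1 + r * p : ℕ) = t * h + r * h * D.e := by
        zify; linear_combination (r : ℤ) * hpZ + hrZ
      exact (Nat.dvd_add_left (h1.mul_left (r * h))).1 (h4 ▸ h2)
    exact hl.ne_one (Nat.dvd_one.1 ((Nat.dvd_add_right (h3.mul_left a)).1 (het ▸ h1)))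
  obtain ⟨hphe, hpn, hpe⟩ := S.not_dvd_p
  have hG := S.card_G
  have hfe : ∀ l : ℕ, l.Prime → l ∣ D.e → l ^ (Nat.card G).factorization l ∣ D.e := by
    intro l hl hle
    refine full_dvd hl (b := p * (1 + r * p)) (by rw [hG]; ring) fun hd => ?_
    rcases hl.dvd_mul.1 hd with h1 | h1
    · exact hpe (((Nat.prime_dvd_prime_iff_eq hl hp).1 h1) ▸ hle)
    · exact hl.ne_one (Nat.eq_one_of_dvd_coprimes hne hle h1)
  have hfn : ∀ q : ℕ, q.Prime → q ∣ 1 + r * p → q ^ (Nat.card G).factorization q ∣ 1 + r * p := by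
    intro q hq hqn
    refine full_dvd hq (b := p * D.e) (by rw [hG]; ring) fun hd => ?_
    rcases hq.dvd_mul.1 hd with h1 | h1
    · exact hpn (((Nat.prime_dvd_prime_iff_eq hq hp).1 h1) ▸ hqn)
    · exact hq.ne_one (Nat.eq_one_of_dvd_coprimes hne h1 hqn)
  obtain ⟨σ, hσN, hσ⟩ := exists_complement D S.hC
  haveI := Fintype.ofFinite (zpowers σ)
  have hE : Nat.card (zpowers σ) = D.e := by rw [Nat.card_zpowers, hσ]
  have hprime : ∀ s : zpowers σ, s ≠ 1 → ∃ l : ℕ, l.Prime ∧ l ∣ orderOf (s : G) ∧ l ∣ D.e := by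
    intro s hs
    have h1 : orderOf (s : G) ≠ 1 := fun e => hs (Subtype.ext (orderOf_eq_one_iff.1 e))
    obtain ⟨l, hl, hld⟩ := Nat.exists_prime_and_dvd h1
    exact ⟨l, hl, hld, hld.trans (orderOf_mem D hσ s).1⟩
  have hY0 : ∀ θ ∈ D.Y, ∀ s : zpowers σ, s ≠ 1 → (θ : G → ℂ) s = 0 := fun θ hθ s hs => by
    obtain ⟨l, hl, hld, hle⟩ := hprime s hs
    exact BlockCharsA.DefectZeroVanish.eq_zero_of_singular hl θ
      (by show _ ∣ deg θ; rw [hf θ hθ]; exact hfe l hl hle) hld
  have hA0 : ∀ χ ∈ minus D, ∀ s : zpowers σ, s ≠ 1 → (χ : G → ℂ) s = 0 := fun χ hχ s hs => by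
    obtain ⟨l, hl, hld, hle⟩ := hprime s hs
    exact BlockCharsA.DefectZeroVanish.eq_zero_of_singular hl χ
      (by show _ ∣ deg χ; rw [(S.mem_minus hχ).2.2.2]; exact (hfe l hl hle).mul_left h) hld
  have hplus1 : ∀ s : zpowers σ, s ≠ 1 → ∑ χ ∈ plus D, (χ : G → ℂ) s = -1 := fun s hs => by
    have := S.rel hθ₀ (orderOf_mem D hσ s).2
    rw [hY0 θ₀ hθ₀ s hs, Finset.sum_eq_zero fun χ hχ => hA0 χ hχ s hs, mul_zero, sub_zero] at this
    linear_combination -this
  -- no trivial constituent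
  have hΦ : ∀ χ : Cfsg.IrrCharacter G, ∃ Φ : zpowers σ → ℂ, χ ∈ plus D →
      Cfsg.IsCharacter (zpowers σ) Φ ∧ (∀ s, s ≠ 1 → Φ s = (χ : G → ℂ) (s : G)) ∧
        Φ 1 = ((r + 1 : ℕ) : ℂ) := by
    intro χ
    by_cases hχ : χ ∈ plus D
    · obtain ⟨hX, -, hs, hd⟩ := S.mem_plus hχ
      obtain ⟨Φ, hΦ⟩ := exists_plus D S.hC hσN hσ (irr_isCharacter χ) (r := r) (by rw [← deg_cast, hd])
        fun y hy hy1 => by rw [D.val_X' hX hy hy1, hs]; simp
      exact ⟨Φ, fun _ => hΦ⟩
    · exact ⟨0, fun h => absurd h hχ⟩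
  choose Φ hΦ using hΦ
  have hmult := mult_of_regular (σ := σ) (plus D) (fun _ => 1) Φ 1 (by
      rw [hE, Finset.sum_congr rfl fun χ hχ => by rw [one_mul, (hΦ χ hχ).2.2], Finset.sum_const, ha,
        nsmul_eq_mul, mul_one, hrt, het]
      push_cast; ring) (fun s hs => by
      rw [Finset.sum_congr rfl fun χ hχ => by rw [one_mul, (hΦ χ hχ).2.1 s hs], hplus1 s hs]; ring)
    (trivIrr (zpowers σ))
  rw [show ((trivIrr (zpowers σ) : Cfsg.IrrCharacter (zpowers σ)) : zpowers σ → ℂ) = fun _ => 1 from rfl,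
    classInner_isIrr_self isIrrCharacter_one] at hmult
  simp only [one_mul, add_eq_left] at hmult
  have hzero : ∀ χ ∈ plus D, Cfsg.classInner (Φ χ) (fun _ => 1) = 0 := by
    choose! k hk using fun χ (hχ : χ ∈ plus D) => classInner_char_nat (hΦ χ hχ).1 isCharacter_one
    rw [Finset.sum_congr rfl hk, ← Nat.cast_sum, Nat.cast_eq_zero] at hmult
    exact fun χ hχ => by rw [hk χ hχ, Finset.sum_eq_zero_iff.1 hmult χ hχ, Nat.cast_zero]
  have hplusE : ∀ χ ∈ plus D, ∑ s : zpowers σ, (χ : G → ℂ) s = (r : ℂ) * ((p : ℂ) - 1) := by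
    intro χ hχ
    rw [sum_erase_one (hΦ χ hχ).2.1, (hΦ χ hχ).2.2, ← deg_cast, (S.mem_plus hχ).2.2.2]
    have := hzero χ hχ
    rw [classInner_def] at this
    simp only [map_one, mul_one, mul_eq_zero, inv_eq_zero, natCard_ne_zero, false_or] at this
    rw [this]; push_cast; ring
  have hY : D.Y.card = h := S.card_Y
  have hetZ : (D.e : ℤ) = a * (t * h) + 1 := by exact_mod_cast het
  have hsq := S.sum_outside_sq hf (by
    rw [ha, hb, hY, hG]
    push_cast
    linear_combination (-(h * D.e : ℤ)) * hrel1 + (1 + a * (1 + r * p : ℤ)) * hpZ +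
      (p : ℤ) * (1 + r * p) * hetZ -
      (p : ℤ) * (1 + r * p) * a * hrZ)
  obtain ⟨m, -, -, hfib⟩ := S.torus hσN hσ hA0 hplusE
    (fun s hs => by
      rw [Finset.sum_eq_zero fun θ hθ => by rw [hY0 θ hθ s hs, mul_zero], hplus1 s hs]; ring)
    (fun i hi => by
      rw [Finset.sum_eq_zero fun θ hθ => by rw [hY0 θ hθ i hi, zero_mul], hplus1 i hi]; ring) hsq
  -- centralizers
  have hσ1 : (⟨σ, mem_zpowers σ⟩ : zpowers σ) ≠ 1 := fun e => by
    have h1 : σ = 1 := congrArg Subtype.val e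
    rw [h1, orderOf_one] at hσ
    have := S.he
    omega
  have hCdvd : Nat.card (centralizer ({σ} : Set G)) ∣ D.e := by
    suffices hco : (Nat.card (centralizer ({σ} : Set G))).Coprime (p * (1 + r * p)) from
      hco.dvd_of_dvd_mul_right (by
        rw [show D.e * (p * (1 + r * p)) = Nat.card G by rw [hG]; ring]
        exact card_subgroup_dvd_card (centralizer ({σ} : Set G)))
    refine Nat.coprime_of_dvd fun q hq h1 h2 => ?_
    haveI := Fact.mk hq
    obtain ⟨⟨g, hgC⟩, hgo⟩ := exists_prime_orderOf_dvd_card' (G := centralizer ({σ} : Set G)) q h1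
    rw [Subgroup.orderOf_mk] at hgo
    obtain ⟨l, hl, hlσ, hle⟩ := hprime _ hσ1
    have hlσ : l ∣ orderOf σ := hlσ
    have ho : orderOf (σ ^ (orderOf σ / l)) = l := orderOf_pow_orderOf_div (orderOf_pos σ).ne' hlσ
    have hqe : ¬ q ∣ D.e := fun hd => by
      rcases hq.dvd_mul.1 h2 with h3 | h3
      · exact hpe (((Nat.prime_dvd_prime_iff_eq hq hp).1 h3) ▸ hd)
      · exact hq.ne_one (Nat.eq_one_of_dvd_coprimes hne hd h3)
    have hql : q ≠ l := fun e => hqe (e ▸ hle)
    have hgl := orderOf_mul_prime ((Nat.coprime_primes hq hl).2 hql) hgo ho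
      (Commute.pow_right (mem_centralizer_singleton_iff.1 hgC) _)
    by_cases hqp : q = p
    · have := (singular D S.hC (g := g * σ ^ (orderOf σ / l)) (by rw [hgl, hqp]; exact dvd_mul_right _ _)).1
      rw [hgl, hqp] at this
      have := hl.one_lt
      nlinarith [hp.pos]
    · have hreg : ¬ p ∣ orderOf (g * σ ^ (orderOf σ / l)) := by
        rw [hgl]; intro hd
        rcases hp.dvd_mul.1 hd with h3 | h3
        · exact hqp ((Nat.prime_dvd_prime_iff_eq hp hq).1 h3).symm
        · exact hpe (((Nat.prime_dvd_prime_iff_eq hp hl).1 h3) ▸ hle)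
      have h3 := S.rel hθ₀ hreg
      rw [BlockCharsA.DefectZeroVanish.eq_zero_of_singular hl θ₀
          (by show _ ∣ deg θ₀; rw [hf θ₀ hθ₀]; exact hfe l hl hle) (by rw [hgl]; exact dvd_mul_left _ _),
        Finset.sum_eq_zero fun χ hχ => BlockCharsA.DefectZeroVanish.eq_zero_of_singular hq χ
          (by show _ ∣ deg χ; rw [(S.mem_plus hχ).2.2.2]
              exact hfn q hq ((hq.dvd_mul.1 h2).resolve_left fun h => hqp ((Nat.prime_dvd_prime_iff_eq hq hp).1 h)))
          (by rw [hgl]; exact dvd_mul_right _ _),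
        Finset.sum_eq_zero fun χ hχ => BlockCharsA.DefectZeroVanish.eq_zero_of_singular hl χ
          (by show _ ∣ deg χ; rw [(S.mem_minus hχ).2.2.2]; exact (hfe l hl hle).mul_left h)
          (by rw [hgl]; exact dvd_mul_left _ _)] at h3
      norm_num at h3
  have hCeq : centralizer ({σ} : Set G) = zpowers σ := by
    refine (eq_of_le_of_card_ge (zpowers_le.2 (mem_centralizer_singleton_iff.2 rfl)) ?_).symm
    rw [hE]
    exact Nat.le_of_dvd D.e_pos hCdvd
  have hw := hfib ⟨σ, mem_zpowers σ⟩ hσ1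
  simp only [hCeq, hE] at hw
  have hN := card_normalizer_zpowers (σ := σ) hCeq
  rw [hE] at hN
  have hd : t * h ∣ p * (1 + r * p) := by
    have h1 := card_subgroup_dvd_card (normalizer ((zpowers σ : Subgroup G) : Set G))
    rw [hN, hG, show p * D.e * (1 + r * p) = (p * (1 + r * p)) * D.e by ring] at h1
    have hw' : (fibre σ σ).card = t * h := by
      rw [← hrt]
      refine Nat.eq_of_mul_eq_mul_right D.e_pos (hw.trans ?_)
      ring
    rw [hw'] at h1
    exact Nat.dvd_of_mul_dvd_mul_right D.e_pos h1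
  have ha1 : 0 < a := Nat.pos_of_ne_zero fun e => by
    subst e; have := S.he; omega
  have hthp : t * h < p := by
    have := D.e_lt
    have := Nat.le_mul_of_pos_left (t * h) ha1
    omega
  have hth0 : 0 < t * h := by omega
  have hd2 : t * h ∣ 1 + r * p :=
    (Nat.Coprime.symm ((Nat.Prime.coprime_iff_not_dvd hp).2 fun hd' =>
      absurd (Nat.le_of_dvd hth0 hd') (by omega))).dvd_of_dvd_mul_left hd
  have hd3 : t * h ∣ r * h * D.e := by
    have h4 : (1 + r * p : ℕ) = t * h + r * h * D.e := by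
      zify; linear_combination (r : ℤ) * hpZ + hrZ
    exact (Nat.dvd_add_right dvd_rfl).1 (h4 ▸ hd2)
  have hd4 : t * h ∣ h * D.e := by
    have : (t * h).Coprime r := by rw [← hrt]; exact Nat.coprime_self_add_left.2 (Nat.coprime_one_left r)
    exact this.dvd_of_dvd_mul_left (by rwa [mul_assoc] at hd3)
  have ht1 : t = 1 := by
    have h5 : t ∣ D.e := Nat.dvd_of_mul_dvd_mul_left hh (by rwa [mul_comm t h] at hd4)
    exact Nat.dvd_one.1 ((Nat.dvd_add_right (show t ∣ a * (t * h) from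
      (dvd_mul_right t h).mul_left a)).1 (het ▸ h5))
  subst ht1
  have hr0 : r ≠ 0 := fun e => by
    have := SmallSimple.Basic.one_lt_card_sylow (p := p) S.hG (prime_dvd_card D)
    rw [S.hn, e] at this
    omega
  have he2 := (D.e_bound S.hG hθ₀ (hf θ₀ hθ₀) S.he).1
  have hh2 : h ≤ 2 := by
    by_contra hgt
    have := S.hp
    have := S.he
    nlinarith
  omega

end Cfsg.Agent.PrimeBlock.Brauer
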