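import Cfsg.Agent.Lib.PrimeBlock.Brauer.Common

/-!
# The column of an element of the complement `E`
-/

set_option linter.style.haveILetI false
set_option linter.unusedSectionVars false

namespace Cfsg.Agent.PrimeBlock.Brauer

open Cfsg.Agent.Characters Cfsg.Agent.Blocks Subgroup
open scoped ComplexConjugate

universe u

variable {G : Type u} [Group G] [Finite G] [IsSimpleGroup G] {p : ℕ} [Fact p.Prime] {P : Sylow p G}
  (D : PBlock P)

/-- What is known when the degrees of the block have been classified. -/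
structure Setup (r h : ℕ) : Prop where
  hG : ¬ IsMulCommutative G
  ht : trivIrr G ∈ D.X
  hts : D.sgn (trivIrr G) = 1
  hC : Nat.card (centralizer ((P : Subgroup G) : Set G)) = p
  hn : Nat.card (Sylow p G) = 1 + r * p
  hp : p = h * D.e + 1
  he : 1 < D.e
  hX : ∀ χ ∈ D.X, χ ≠ trivIrr G → (D.sgn χ = 1 ∧ deg χ = 1 + r * p) ∨ (D.sgn χ = -1 ∧ deg χ = p - 1)

/-- The members of degree `n`. -/
noncomputable def plus : Finset (Cfsg.IrrCharacter G) :=
  open _root_.Classical in (D.X.erase (trivIrr G)).filter fun χ => D.sgn χ = 1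

/-- The members of degree `p - 1`. -/
noncomputable def minus : Finset (Cfsg.IrrCharacter G) :=
  open _root_.Classical in (D.X.erase (trivIrr G)).filter fun χ => ¬ D.sgn χ = 1

theorem sum_X_erase [DecidableEq (Cfsg.IrrCharacter G)] (f : Cfsg.IrrCharacter G → ℂ) :
    ∑ χ ∈ D.X.erase (trivIrr G), f χ = ∑ χ ∈ plus D, f χ + ∑ χ ∈ minus D, f χ := by
  classical
  rw [plus, minus]
  convert (Finset.sum_filter_add_sum_filter_not (D.X.erase (trivIrr G)) (fun χ => D.sgn χ = 1) f).symm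

variable {D} {r h : ℕ} (S : Setup D r h)
include S

theorem Setup.mem_plus {χ : Cfsg.IrrCharacter G} (hχ : χ ∈ plus D) :
    χ ∈ D.X ∧ χ ≠ trivIrr G ∧ D.sgn χ = 1 ∧ deg χ = 1 + r * p := by
  classical
  simp only [plus, Finset.mem_filter, Finset.mem_erase] at hχ
  refine ⟨hχ.1.2, hχ.1.1, hχ.2, ?_⟩
  rcases S.hX χ hχ.1.2 hχ.1.1 with h' | h'
  · exact h'.2
  · rw [h'.1] at hχ; omega

theorem Setup.mem_minus {χ : Cfsg.IrrCharacter G} (hχ : χ ∈ minus D) :
    χ ∈ D.X ∧ χ ≠ trivIrr G ∧ D.sgn χ = -1 ∧ deg χ = h * D.e := by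
  classical
  simp only [minus, Finset.mem_filter, Finset.mem_erase] at hχ
  rcases S.hX χ hχ.1.2 hχ.1.1 with h' | h'
  · exact absurd h'.1 hχ.2
  · refine ⟨hχ.1.2, hχ.1.1, h'.1, ?_⟩
    have := S.hp
    omega

theorem Setup.counts : (plus D).card + (minus D).card + 1 = D.e := by
  classical
  rw [plus, minus]
  have h1 := Finset.card_filter_add_card_filter_not (s := D.X.erase (trivIrr G)) fun χ => D.sgn χ = 1
  rw [Finset.card_erase_of_mem S.ht, D.card_X] at h1
  have := D.e_pos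
  convert congrArg (· + 1) h1 using 1
  omega

/-- The block relation at a regular element. -/
theorem Setup.rel {θ : Cfsg.IrrCharacter G} (hθ : θ ∈ D.Y) {g : G} (hg : ¬ p ∣ orderOf g) :
    (D.ε : ℂ) * (θ : G → ℂ) g =
      1 + ∑ χ ∈ plus D, (χ : G → ℂ) g - ∑ χ ∈ minus D, (χ : G → ℂ) g := by
  classical
  rw [D.rel θ hθ g hg, ← Finset.add_sum_erase _ _ S.ht, S.hts, sum_X_erase D,
    Finset.sum_congr rfl fun χ hχ => by rw [(S.mem_plus hχ).2.2.1],
    Finset.sum_congr (s₁ := minus D) rfl fun χ hχ => by rw [(S.mem_minus hχ).2.2.1]]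
  simp only [trivIrr_coe, Int.cast_one, mul_one, Int.cast_neg, one_mul, neg_mul, Finset.sum_neg_distrib]
  ring

theorem Setup.card_G : Nat.card G = p * D.e * (1 + r * p) := by
  rw [card_group D S.hC, S.hn]

theorem Setup.h_pos : 0 < h := by
  rcases Nat.eq_zero_or_pos h with h0 | h0
  · have := S.hp; have := D.two_lt; subst h0; omega
  · exact h0

theorem Setup.card_Y : D.Y.card = h := by
  rw [D.card_Y, show p - 1 = h * D.e by have := S.hp; omega, Nat.mul_div_cancel _ D.e_pos]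

theorem Setup.not_dvd_p : ¬ p ∣ h * D.e ∧ ¬ p ∣ 1 + r * p ∧ ¬ p ∣ D.e := by
  have := S.hp
  have h2 := D.two_lt
  have he := S.he
  refine ⟨fun hd => ?_, fun hd => ?_, fun hd => ?_⟩
  · have := Nat.le_of_dvd (Nat.mul_pos S.h_pos D.e_pos) hd; omega
  · have := Nat.le_of_dvd one_pos ((Nat.dvd_add_left (dvd_mul_left p r)).1 hd); omega
  · have := Nat.le_of_dvd D.e_pos hd; have := D.e_lt; omega

/-- The degrees of the block at a regular element: the squares. -/
theorem Setup.sum_outside_sq [Fintype (Cfsg.IrrCharacter G)] {f : ℕ}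
    (hf : ∀ θ ∈ D.Y, deg θ = f)
    (hid : ((Nat.card G : ℕ) : ℤ) - 1 - (plus D).card * (1 + r * p : ℤ) ^ 2 -
      (minus D).card * (h * D.e : ℤ) ^ 2 - D.Y.card * (f : ℤ) ^ 2 = r * (p : ℤ) ^ 2) :
    ∑ ψ ∈ outside D, (deg ψ : ℂ) ^ 2 = (r : ℂ) * (p : ℂ) ^ 2 := by
  classical
  have h0 := sum_degree_sq (G := G)
  rw [sum_split D S.ht, sum_X_erase D,
    Finset.sum_congr rfl fun χ hχ => by rw [← deg_cast, (S.mem_plus hχ).2.2.2],
    Finset.sum_congr (s₁ := minus D) rfl fun χ hχ => by rw [← deg_cast, (S.mem_minus hχ).2.2.2],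
    Finset.sum_congr (s₁ := D.Y) rfl fun χ hχ => by rw [← deg_cast, hf χ hχ]] at h0
  simp only [Finset.sum_const, nsmul_eq_mul, ← deg_cast, deg_trivIrr] at h0
  have hid' : (Nat.card G : ℂ) - 1 - (plus D).card * (1 + r * p : ℂ) ^ 2 -
      (minus D).card * (h * D.e : ℂ) ^ 2 - D.Y.card * (f : ℂ) ^ 2 = r * (p : ℂ) ^ 2 := by
    exact_mod_cast hid
  push_cast at h0
  linear_combination h0 + hid'

omit S in
/-- Multiplicities in a combination of characters of `E` that is a multiple of the regular one. -/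
theorem mult_of_regular {σ : G} [Fintype (zpowers σ)] {ι : Type*} (I : Finset ι)
    (c : ι → ℂ) (Φ : ι → zpowers σ → ℂ) (c0 : ℂ)
    (h1 : c0 + ∑ i ∈ I, c i * Φ i 1 = (Nat.card (zpowers σ) : ℂ) * c0)
    (hs : ∀ s, s ≠ 1 → c0 + ∑ i ∈ I, c i * Φ i s = 0) (μ : Cfsg.IrrCharacter (zpowers σ)) :
    c0 * Cfsg.classInner (fun _ => 1) (μ : zpowers σ → ℂ) +
      ∑ i ∈ I, c i * Cfsg.classInner (Φ i) (μ : zpowers σ → ℂ) = c0 := by
  classical
  have hμ : (μ : zpowers σ → ℂ) 1 = 1 := by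
    refine irr_degree_one_of_comm (fun a b => ?_) μ.2
    exact Subtype.ext (by
      obtain ⟨i, hi⟩ := mem_zpowers_iff.1 a.2
      obtain ⟨j, hj⟩ := mem_zpowers_iff.1 b.2
      simp only [Subgroup.coe_mul, ← hi, ← hj, ← zpow_add, add_comm])
  calc c0 * Cfsg.classInner (fun _ => 1) (μ : zpowers σ → ℂ) +
        ∑ i ∈ I, c i * Cfsg.classInner (Φ i) (μ : zpowers σ → ℂ)
      = (Nat.card (zpowers σ) : ℂ)⁻¹ * ∑ s : zpowers σ,
          (c0 + ∑ i ∈ I, c i * Φ i s) * conj ((μ : zpowers σ → ℂ) s) := by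
        simp only [classInner_def, add_mul, Finset.sum_add_distrib, mul_add, Finset.sum_mul]
        simp only [Finset.mul_sum, one_mul]
        congr 1
        · exact Finset.sum_congr rfl fun s _ => by ring
        · rw [Finset.sum_comm]
          exact Finset.sum_congr rfl fun i _ => Finset.sum_congr rfl fun s _ => by ring
    _ = c0 := by
        rw [← Finset.add_sum_erase _ _ (Finset.mem_univ (1 : zpowers σ)),
          Finset.sum_eq_zero fun (s : zpowers σ) hs' => by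
            rw [hs s (Finset.mem_erase.1 hs').1, zero_mul], h1, hμ, map_one, add_zero, mul_one,
          inv_mul_cancel_left₀ natCard_ne_zero]

variable {σ : G} (hσN : σ ∈ normalizer ((P : Subgroup G) : Set G)) (hσ : orderOf σ = D.e)

include hσN hσ in
open _root_.Classical in
/-- The centralizers and fusion in `E#`. -/
theorem Setup.torus [Fintype (Cfsg.IrrCharacter G)] [Fintype (zpowers σ)]
    (hA0 : ∀ χ ∈ minus D, ∀ s : zpowers σ, s ≠ 1 → (χ : G → ℂ) s = 0)
    (hplus : ∀ χ ∈ plus D, ∑ s : zpowers σ, (χ : G → ℂ) s = (r : ℂ) * ((p : ℂ) - 1))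
    (hcol : ∀ s : zpowers σ, s ≠ 1 → ∑ θ ∈ D.Y, (deg θ : ℂ) * (θ : G → ℂ) s =
      (1 + r * p : ℂ) * (-1 - ∑ χ ∈ plus D, (χ : G → ℂ) s))
    (hY : ∀ i : zpowers σ, i ≠ 1 → ∑ θ ∈ D.Y, (θ : G → ℂ) i * conj (∑ s : zpowers σ, (θ : G → ℂ) s) =
      (r : ℂ) * ((p : ℂ) - 1) * (-1 - ∑ χ ∈ plus D, (χ : G → ℂ) i))
    (hsq : ∑ ψ ∈ outside D, (deg ψ : ℂ) ^ 2 = (r : ℂ) * (p : ℂ) ^ 2) :
    ∃ m : Cfsg.IrrCharacter G → ℕ, (∑ ψ ∈ outside D, (m ψ : ℂ) ^ 2 = r) ∧
      (∀ ψ ∈ outside D, ∀ s : zpowers σ, s ≠ 1 → (ψ : G → ℂ) s = (m ψ : ℂ)) ∧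
      ∀ i : zpowers σ, i ≠ 1 → (fibre σ (i : G)).card *
        Nat.card (centralizer ({(i : G)} : Set G)) = D.e * (r + 1) := by
  have hcard : Fintype.card (zpowers σ) = D.e := by
    rw [← Nat.card_eq_fintype_card, Nat.card_zpowers, hσ]
  have hsum : ∀ s : zpowers σ, s ≠ 1 →
      ∑ ψ ∈ outside D, (deg ψ : ℂ) * (ψ : G → ℂ) s = (r : ℂ) * p := by
    intro s hs
    have h0 := sum_degree_mul (G := G) (g := (s : G)) fun e => hs (Subtype.ext e)
    rw [sum_split D S.ht, sum_X_erase D, Finset.sum_congr (s₁ := minus D) rfl fun χ hχ => by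
      rw [hA0 χ hχ s hs, mul_zero], Finset.sum_congr (s₁ := plus D) rfl fun χ hχ => by
      rw [(S.mem_plus hχ).2.2.2], ← Finset.mul_sum, hcol s hs] at h0
    simp only [deg_trivIrr, trivIrr_coe, Finset.sum_const_zero] at h0
    push_cast at h0
    linear_combination h0
  obtain ⟨m, hm, hconst⟩ := outside_const D S.hC hσN hσ hsum hsq
  refine ⟨m, hm, fun ψ hψ => (hconst ψ hψ).2, fun i hi => ?_⟩
  have h0 := count_conj (σ := σ) (i : G)
  rw [sum_split D S.ht, sum_X_erase D, Finset.sum_congr (s₁ := minus D) rfl fun χ hχ => by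
    rw [hA0 χ hχ i hi, zero_mul], Finset.sum_congr (s₁ := plus D) rfl fun χ hχ => by
    rw [hplus χ hχ], hY i hi, Finset.sum_congr (s₁ := outside D) rfl fun ψ hψ => show
      (ψ : G → ℂ) (i : G) * conj (∑ s : zpowers σ, (ψ : G → ℂ) (s : G)) =
        (m ψ : ℂ) ^ 2 * ((p : ℂ) - 1 + D.e) by
      rw [(hconst ψ hψ).2 i hi, ← Finset.add_sum_erase _ _ (Finset.mem_univ (1 : zpowers σ)),
        Finset.sum_congr rfl fun s hs => (hconst ψ hψ).2 s (Finset.mem_erase.1 hs).1,
        Finset.sum_const, Finset.card_erase_of_mem (Finset.mem_univ _), Finset.card_univ, hcard,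
        OneMemClass.coe_one, ← deg_cast, (hconst ψ hψ).1, nsmul_eq_mul, Nat.cast_sub D.e_pos]
      simp only [map_add, map_mul, map_natCast, map_sub, Nat.cast_one, map_one]
      ring, ← Finset.sum_mul (s := plus D), ← Finset.sum_mul (s := outside D), hm] at h0
  simp only [trivIrr_coe, Finset.sum_const, Finset.card_univ, hcard, nsmul_eq_mul, mul_one,
    map_natCast, one_mul, map_mul, map_sub, map_one] at h0
  have h1 : ((D.e * (r + 1) : ℕ) : ℂ) =
      (((fibre σ (i : G)).card *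
        Nat.card (centralizer ({(i : G)} : Set G)) : ℕ) : ℂ) := by
    push_cast at h0 ⊢
    linear_combination h0
  exact_mod_cast h1.symm

end Cfsg.Agent.PrimeBlock.Brauer
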